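import Cfsg.Agent.H539.Lim.Defs

/-!
# A6, A7, A9 (helper539, for S5242)
-/

set_option autoImplicit false

namespace Cfsg.Agent.H539.Lim

open MulAction

universe u v w

variable {G : Type u} [Group G] {Ω : Type v} [MulAction G Ω] {D : Type w} [AddCommGroup D]
  [DistribMulAction G D]

theorem st_smul_mem {V : Set (Subgroup G)} (hVi : IsInv V) {k : ℕ} (g : G) (x : Fin k → Ω) :
    st G (g • x) ∈ V ↔ st G x ∈ V := by
  have key : ∀ (g : G) (x : Fin k → Ω), st G x ∈ V → st G (g • x) ∈ V := by
    intro g x h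
    have := hVi g _ h
    rwa [cj, ← MulAction.stabilizer_smul_eq_stabilizer_map_conj] at this
  refine ⟨fun h => ?_, key g x⟩
  have := key g⁻¹ _ h
  rwa [inv_smul_smul] at this

theorem van_fix (Y : Subgroup G) [Y.Normal] (hY : ∀ x : Ω, Y ≤ stabilizer G x) {V : Set (Subgroup G)} {n : ℕ}
    (h : Van G Ω ↥(DFix Y D) V n) : Van G Ω D V n := by
  have key : ∀ (k : ℕ) (c : (Fin k → Ω) → D), IsCoch V c →
      ∃ c' : (Fin k → Ω) → ↥(DFix Y D), IsCoch V c' ∧ ∀ x, (c' x : D) = c x := by
    intro k c hc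
    refine ⟨fun x => ⟨c x, fun u hu => ?_⟩, ⟨?_, ?_⟩, fun x => rfl⟩
    · rw [← hc.smul u x]
      congr 1
      funext i
      exact hY (x i) hu
    · intro g x
      apply Subtype.ext
      exact hc.smul g x
    · intro x hx
      apply Subtype.ext
      exact hc.supp x hx
  have hdd : ∀ (k : ℕ) (c' : (Fin k → Ω) → ↥(DFix Y D)) (x : Fin (k + 1) → Ω),
      ((dd c' x : ↥(DFix Y D)) : D) = dd (fun y => (c' y : D)) x := by
    intro k c' x
    simp only [dd, AddSubgroup.val_finset_sum, AddSubgroup.coe_zsmul]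
  have hcoc : ∀ (k : ℕ) (c : (Fin k → Ω) → D) (c' : (Fin k → Ω) → ↥(DFix Y D)), (∀ x, (c' x : D) = c x) →
      IsCoc (G := G) V c → IsCoc (G := G) V c' := by
    intro k c c' h1 h2 x hx
    apply Subtype.ext
    rw [hdd]
    have : (fun y => (c' y : D)) = c := funext h1
    rw [this]
    exact h2 x hx
  cases n with
  | zero =>
    intro c hc hc2 x
    obtain ⟨c', h1, h2⟩ := key _ c hc
    have := h c' h1 (hcoc _ c c' h2 hc2) x
    rw [← h2 x, this]; rfl
  | succ n =>
    intro c hc hc2
    obtain ⟨c', h1, h2⟩ := key _ c hc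
    obtain ⟨b', h3, h4⟩ := h c' h1 (hcoc _ c c' h2 hc2)
    refine ⟨fun y => (b' y : D), ⟨?_, ?_⟩, ?_⟩
    · intro g x
      have := congrArg Subtype.val (h3.smul g x)
      exact this
    · intro x hx
      have := congrArg Subtype.val (h3.supp x hx)
      exact this
    · intro x hx
      rw [← h2 x, h4 x hx, hdd]

theorem van_of_surj {H : Type*} [Group H] [MulAction H Ω] [DistribMulAction H D] (φ : G →* H)
    (hφ : Function.Surjective φ) (hΩ : ∀ (g : G) (x : Ω), g • x = φ g • x) (hD : ∀ (g : G) (d : D), g • d = φ g • d)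
    {V : Set (Subgroup G)} {V' : Set (Subgroup H)}
    (hV : ∀ (k : ℕ) (x : Fin (k + 1) → Ω), st G x ∈ V ↔ st H x ∈ V') {n : ℕ} (h : Van H Ω D V' n) :
    Van G Ω D V n := by
  have hs : ∀ (k : ℕ) (g : G) (x : Fin k → Ω), g • x = φ g • x := fun k g x => funext fun i => hΩ g (x i)
  have c1 : ∀ (k : ℕ) (c : (Fin (k + 1) → Ω) → D), IsCoch (G := G) V c → IsCoch (G := H) V' c := by
    intro k c hc
    refine ⟨fun t x => ?_, fun x hx => hc.supp x (fun h' => hx ((hV k x).mp h'))⟩
    obtain ⟨g, rfl⟩ := hφ t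
    rw [← hs, hc.smul, hD]
  have c2 : ∀ (k : ℕ) (c : (Fin (k + 1) → Ω) → D), IsCoch (G := H) V' c → IsCoch (G := G) V c := by
    intro k c hc
    refine ⟨fun g x => ?_, fun x hx => hc.supp x (fun h' => hx ((hV k x).mpr h'))⟩
    rw [hs, hc.smul, hD]
  have c3 : ∀ (k : ℕ) (c : (Fin k → Ω) → D), IsCoc (G := G) V c → IsCoc (G := H) V' c := by
    intro k c hc x hx
    exact hc x ((hV k x).mpr hx)
  cases n with
  | zero => exact fun c hc hc2 x => h c (c1 _ c hc) (c3 _ c hc2) x
  | succ n =>
    intro c hc hc2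
    obtain ⟨b, hb, hb2⟩ := h c (c1 _ c hc) (c3 _ c hc2)
    exact ⟨b, c2 _ b hb, fun x hx => hb2 x ((hV _ x).mp hx)⟩

theorem st_one (x : Fin 1 → Ω) : st G x = stabilizer G (x 0) := by
  ext g
  simp only [MulAction.mem_stabilizer_iff]
  constructor
  · intro h; exact congrFun h 0
  · intro h; funext i; rw [Fin.fin_one_eq_zero i]; exact h

theorem st_two (x : Fin 2 → Ω) : st G x = stabilizer G (x 0) ⊓ stabilizer G (x 1) := by
  ext g
  simp only [MulAction.mem_stabilizer_iff, Subgroup.mem_inf]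
  constructor
  · intro h; exact ⟨congrFun h 0, congrFun h 1⟩
  · rintro ⟨h1, h2⟩; funext i
    fin_cases i
    · exact h1
    · exact h2

theorem st_three (x : Fin 3 → Ω) :
    st G x = stabilizer G (x 0) ⊓ stabilizer G (x 1) ⊓ stabilizer G (x 2) := by
  ext g
  simp only [MulAction.mem_stabilizer_iff, Subgroup.mem_inf]
  constructor
  · intro h; exact ⟨⟨congrFun h 0, congrFun h 1⟩, congrFun h 2⟩
  · rintro ⟨⟨h1, h2⟩, h3⟩; funext i
    fin_cases i
    · exact h1
    · exact h2
    · exact h3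

theorem dd_one (b : (Fin 1 → Ω) → D) (x : Fin 2 → Ω) :
    dd b x = b (fun _ => x 1) - b (fun _ => x 0) := by
  have e0 : (fun j : Fin 1 => x ((0 : Fin 2).succAbove j)) = fun _ => x 1 := by
    funext j; fin_cases j; rfl
  have e1 : (fun j : Fin 1 => x ((1 : Fin 2).succAbove j)) = fun _ => x 0 := by
    funext j; fin_cases j; rfl
  rw [dd, Fin.sum_univ_two]
  simp only [Fin.val_zero, Fin.val_one, pow_zero, pow_one, one_smul, neg_smul, e0, e1]
  abel

theorem dd_two (c : (Fin 2 → Ω) → D) (x : Fin 3 → Ω) :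
    dd c x = c ![x 1, x 2] - c ![x 0, x 2] + c ![x 0, x 1] := by
  have e0 : (fun j : Fin 2 => x ((0 : Fin 3).succAbove j)) = ![x 1, x 2] := by
    funext j; fin_cases j <;> rfl
  have e1 : (fun j : Fin 2 => x ((1 : Fin 3).succAbove j)) = ![x 0, x 2] := by
    funext j; fin_cases j <;> rfl
  have e2 : (fun j : Fin 2 => x ((2 : Fin 3).succAbove j)) = ![x 0, x 1] := by
    funext j; fin_cases j <;> rfl
  rw [dd, Fin.sum_univ_three]
  simp only [Fin.val_zero, Fin.val_one, Fin.val_two, pow_zero, pow_one, one_smul, neg_smul, e0, e1, e2]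
  simp
  abel

theorem vec_two (x : Fin 2 → Ω) : ![x 0, x 1] = x := by
  funext j; fin_cases j <;> rfl

theorem smul_vec_two (g : G) (x y : Ω) : ![g • x, g • y] = g • ![x, y] := by
  funext j; fin_cases j <;> rfl

open Classical in
/-- translation of `Van ... 1` into functions of two points -/
theorem van_one_iff {V : Set (Subgroup G)} (hV : IsUpperSet V) (hVi : IsInv V) :
    Van G Ω D V 1 ↔ ∀ c : Ω → Ω → D, (∀ (g : G) x y, c (g • x) (g • y) = g • c x y) →
      (∀ x y z, stabilizer G x ⊓ stabilizer G y ⊓ stabilizer G z ∈ V → c x z = c x y + c y z) →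
      ∃ v : Ω → D, (∀ (g : G) y, v (g • y) = g • v y) ∧
        ∀ x y, stabilizer G x ⊓ stabilizer G y ∈ V → c x y = v y - v x := by
  constructor
  · intro h c hc hcoc
    set C : (Fin 2 → Ω) → D := fun x => if st G x ∈ V then c (x 0) (x 1) else 0 with hC
    have C1 : ∀ x, st G x ∈ V → C x = c (x 0) (x 1) := fun x hx => if_pos hx
    have hC1 : IsCoch V C := by
      refine ⟨fun g x => ?_, fun x hx => if_neg hx⟩
      simp only [hC, st_smul_mem hVi]
      split_ifs
      · exact hc g (x 0) (x 1)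
      · rw [smul_zero]
    have hC2 : IsCoc (G := G) V C := by
      intro x hx
      have hx3 := hx
      rw [st_three] at hx3
      have h12 : st G ![x 1, x 2] ∈ V := by
        rw [st_two]
        exact hV (le_inf (inf_le_left.trans inf_le_right) inf_le_right) hx3
      have h02 : st G ![x 0, x 2] ∈ V := by
        rw [st_two]
        exact hV (le_inf (inf_le_left.trans inf_le_left) inf_le_right) hx3
      have h01 : st G ![x 0, x 1] ∈ V := by
        rw [st_two]
        exact hV inf_le_left hx3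
      rw [dd_two, C1 _ h12, C1 _ h02, C1 _ h01]
      have := hcoc (x 0) (x 1) (x 2) hx3
      simp only [Matrix.cons_val_zero, Matrix.cons_val_one]
      rw [this]
      abel
    obtain ⟨b, hb, hb2⟩ := h C hC1 hC2
    refine ⟨fun y => b (fun _ => y), fun g y => hb.smul g (fun _ => y), fun x y hxy => ?_⟩
    have h1 : st G ![x, y] ∈ V := by rw [st_two]; exact hxy
    have h2 := hb2 ![x, y] h1
    rw [C1 _ h1, dd_one] at h2
    exact h2
  · intro h c hc hcoc
    obtain ⟨v, hv, hv2⟩ := h (fun x y => c ![x, y]) (fun g x y => by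
      rw [smul_vec_two, hc.smul]) (fun x y z hxyz => by
        have h1 : st G ![x, y, z] ∈ V := by rw [st_three]; exact hxyz
        have h2 := hcoc ![x, y, z] h1
        rw [dd_two] at h2
        simp only [Matrix.cons_val_zero, Matrix.cons_val_one, Matrix.cons_val_two, Matrix.head_cons,
          Matrix.tail_cons] at h2
        have h3 : c ![y, z] - c ![x, z] + c ![x, y] = 0 := h2
        have h4 : c ![x, z] = c ![x, y] + c ![y, z] - (c ![y, z] - c ![x, z] + c ![x, y]) := by abel
        rw [h3, sub_zero] at h4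
        exact h4)
    refine ⟨fun x => if st G x ∈ V then v (x 0) else 0, ⟨fun g x => ?_, fun x hx => if_neg hx⟩, fun x hx => ?_⟩
    · simp only [st_smul_mem hVi]
      split_ifs
      · exact hv g (x 0)
      · rw [smul_zero]
    · have hx2 := hx
      rw [st_two] at hx2
      have h0 : st G (fun _ : Fin 1 => x 0) ∈ V := by
        rw [st_one]; exact hV inf_le_left hx2
      have h1 : st G (fun _ : Fin 1 => x 1) ∈ V := by
        rw [st_one]; exact hV inf_le_right hx2
      rw [dd_one]
      simp only [if_pos h0, if_pos h1]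
      have := hv2 (x 0) (x 1) hx2
      simp only [vec_two] at this
      exact this

/-- A9: it is enough to work with the Sylow orbit -/
theorem van_one_of_orbit {p : ℕ} [Fact p.Prime] [Finite G] [Finite Ω] (hΩ : PSet p G Ω) {V : Set (Subgroup G)}
    (hV : IsUpperSet V) (hVi : IsInv V) (Ω₀ : Finset Ω) (h0 : ∀ (g : G), ∀ y ∈ Ω₀, g • y ∈ Ω₀)
    (hfix : ∀ P : Subgroup G, IsPGroup p P → ∃ y ∈ Ω₀, P ≤ stabilizer G y)
    (c : Ω → Ω → D) (hc : ∀ (g : G) x y, c (g • x) (g • y) = g • c x y)
    (hcoc : ∀ x y z, stabilizer G x ⊓ stabilizer G y ⊓ stabilizer G z ∈ V → c x z = c x y + c y z)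
    (v : Ω → D) (hv : ∀ (g : G), ∀ y ∈ Ω₀, v (g • y) = g • v y)
    (hcv : ∀ x ∈ Ω₀, ∀ y ∈ Ω₀, stabilizer G x ⊓ stabilizer G y ∈ V → c x y = v y - v x) :
    ∃ v' : Ω → D, (∀ (g : G) y, v' (g • y) = g • v' y) ∧
      ∀ x y, stabilizer G x ⊓ stabilizer G y ∈ V → c x y = v' y - v' x := by
  classical
  choose r hr hr2 using fun x : Ω => hfix (stabilizer G x) (hΩ.pgroup x)
  have hinv : ∀ (g : G) (x : Ω), stabilizer G (g • x) ∈ V ↔ stabilizer G x ∈ V := by
    intro g x
    have := st_smul_mem hVi g (fun _ : Fin 1 => x)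
    rw [st_one, st_one] at this
    exact this
  -- independence of the choice
  have key : ∀ x y : Ω, y ∈ Ω₀ → stabilizer G x ≤ stabilizer G y → stabilizer G x ∈ V →
      v y - c x y = v (r x) - c x (r x) := by
    intro x y hy hxy hx
    have h1 : stabilizer G x ⊓ stabilizer G (r x) ⊓ stabilizer G y ∈ V := by
      rw [inf_eq_left.mpr (hr2 x), inf_eq_left.mpr hxy]; exact hx
    rw [hcoc x (r x) y h1, hcv (r x) (hr x) y hy (hV (le_inf (hr2 x) hxy) hx)]
    abel
  refine ⟨fun x => if stabilizer G x ∈ V then v (r x) - c x (r x) else 0, fun g x => ?_, fun x y hxy => ?_⟩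
  · simp only [hinv]
    split_ifs with hx
    · have h1 : stabilizer G (g • x) ≤ stabilizer G (g • r x) := by
        rw [MulAction.stabilizer_smul_eq_stabilizer_map_conj, MulAction.stabilizer_smul_eq_stabilizer_map_conj]
        exact Subgroup.map_mono (hr2 x)
      rw [← key (g • x) (g • r x) (h0 g _ (hr x)) h1 ((hinv g x).mpr hx), hv g _ (hr x), hc, smul_sub]
    · rw [smul_zero]
  · have hx : stabilizer G x ∈ V := hV inf_le_left hxy
    have hy : stabilizer G y ∈ V := hV inf_le_right hxy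
    simp only [if_pos hx, if_pos hy]
    have e1 : c x y = c x (r x) + c (r x) y := by
      apply hcoc
      rw [inf_eq_left.mpr (hr2 x)]; exact hxy
    have e2 : c (r x) y = c (r x) (r y) + c (r y) y := by
      apply hcoc
      refine hV (le_inf (le_inf ?_ ?_) inf_le_right) hxy
      · exact inf_le_left.trans (hr2 x)
      · exact inf_le_right.trans (hr2 y)
    have e3 : c (r x) (r y) = v (r y) - v (r x) := by
      refine hcv _ (hr x) _ (hr y) (hV (le_inf ?_ ?_) hxy)
      · exact inf_le_left.trans (hr2 x)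
      · exact inf_le_right.trans (hr2 y)
    have e4 : c y y = 0 := by
      have := hcoc y y y (by rw [inf_idem, inf_idem]; exact hy)
      have h5 : c y y + 0 = c y y + c y y := by rw [add_zero]; exact this
      exact (add_left_cancel h5).symm
    have e5 : c y y = c y (r y) + c (r y) y := by
      apply hcoc
      rw [inf_eq_left.mpr (hr2 y), inf_idem]; exact hy
    have e6 : c (r y) y = - c y (r y) := by
      rw [e4] at e5
      exact (neg_eq_of_add_eq_zero_right e5.symm).symm
    rw [e1, e2, e3, e6]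
    abel

end Cfsg.Agent.H539.Lim
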