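import Cfsg.Agent.H539.Lim.Defs

/-!
# Definitions for Claim T (helper539, for S5242)
-/

set_option autoImplicit false

namespace Cfsg.Agent.H539.Lim

open MulAction

/-- `a` acts as a transvection `d ↦ d + f(d) z` -/
structure Tv {G : Type*} [Group G] {D : Type*} [AddCommGroup D] [DistribMulAction G D] (a : G)
    (f : D →+ ZMod 2) (z : D) : Prop where
  ne_one : a ≠ 1
  sq : a * a = 1
  z_ne : z ≠ 0
  two_z : z + z = 0
  f_ne : f ≠ 0
  fz : f z = 0
  act : ∀ d : D, a • d = d + (f d).val • z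

/-- the subgroups containing a nontrivial best offender -/
def Q0 (G : Type*) [Group G] (D : Type*) [AddCommGroup D] [DistribMulAction G D] : Set (Subgroup G) :=
  {P | ∃ A : Subgroup G, A ≤ P ∧ A ≠ ⊥ ∧ BO D A}

/-- the subgroups containing a nontrivial norm-good best offender -/
def Qs (G : Type*) [Group G] (D : Type*) [AddCommGroup D] [DistribMulAction G D] : Set (Subgroup G) :=
  {P | ∃ A : Subgroup G, A ≤ P ∧ A ≠ ⊥ ∧ BO D A ∧ NGood 2 D A}

/-- the subgroups containing a transvection -/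
def Q1 (G : Type*) [Group G] (D : Type*) [AddCommGroup D] [DistribMulAction G D] : Set (Subgroup G) :=
  {P | ∃ a ∈ P, ∃ (f : D →+ ZMod 2) (z : D), Tv a f z}

/-- a Sylow orbit (prime 2) -/
structure Orb2 (G : Type*) [Group G] {Ω : Type*} [MulAction G Ω] (Ω₀ : Finset Ω) : Prop where
  smul_mem : ∀ (g : G), ∀ y ∈ Ω₀, g • y ∈ Ω₀
  trans : ∀ y ∈ Ω₀, ∀ z ∈ Ω₀, ∃ g : G, g • y = z
  sylow : ∀ y ∈ Ω₀, ∃ S : Sylow 2 G, (S : Subgroup G) = stabilizer G y
  odd : Odd Ω₀.card

/-- the standing hypotheses on a cocycle on `Q0` (two-point function, supported on `Q0`) -/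
structure Coc2 (G : Type*) [Group G] {Ω : Type*} [MulAction G Ω] {D : Type*} [AddCommGroup D]
    [DistribMulAction G D] (Ω₀ : Finset Ω) (c : Ω → Ω → D) : Prop where
  equiv : ∀ (g : G) x y, c (g • x) (g • y) = g • c x y
  supp : ∀ x y, stabilizer G x ⊓ stabilizer G y ∉ Q0 G D → c x y = 0
  coc : ∀ x ∈ Ω₀, ∀ y ∈ Ω₀, ∀ z ∈ Ω₀,
    stabilizer G x ⊓ stabilizer G y ⊓ stabilizer G z ∈ Q0 G D → c x z = c x y + c y z

open Classical in
/-- `V_a(x)`: the sum of `c x y` over the `y ∈ Ω₀` fixed by `a` -/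
noncomputable def Vv {G : Type*} [Group G] {Ω : Type*} [MulAction G Ω] {D : Type*} [AddCommGroup D]
    (Ω₀ : Finset Ω) (c : Ω → Ω → D) (a : G) (x : Ω) : D :=
  ∑ y ∈ Ω₀.filter (fun y => a • y = y), c x y

/-- the subgroup generated by the transvections in the stabilizer of `x` -/
def Wt (G : Type*) [Group G] {Ω : Type*} [MulAction G Ω] (D : Type*) [AddCommGroup D]
    [DistribMulAction G D] (x : Ω) : Subgroup G :=
  Subgroup.closure {a | a ∈ stabilizer G x ∧ ∃ (f : D →+ ZMod 2) (z : D), Tv a f z}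

open Classical in
/-- the vertex function of case N: the sum of `c x y` over the `y ∈ Ω₀` with `|W : W ∩ G_y| ≤ 2`, `W = Wt G D x` -/
noncomputable def vN (G : Type*) [Group G] {Ω : Type*} [MulAction G Ω] {D : Type*} [AddCommGroup D]
    [DistribMulAction G D] (Ω₀ : Finset Ω) (c : Ω → Ω → D) (x : Ω) : D :=
  ∑ y ∈ Ω₀.filter (fun y => (stabilizer G y).relIndex (Wt G D x) ≤ 2), c x y

end Cfsg.Agent.H539.Lim
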