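import Cfsg.Agent.H539.Lim.DefsC

/-! conjugation of offenders, norm-good subgroups, transvections -/

set_option autoImplicit false

namespace Cfsg.Agent.H539.Lim

open MulAction

universe u v w

variable {G : Type u} [Group G] {Ω : Type v} [MulAction G Ω] {D : Type w} [AddCommGroup D]
  [DistribMulAction G D]

theorem isUpper_Q0 : IsUpperSet (Q0 G D) := by
  rintro P Q hPQ ⟨A, hA, h1, h2⟩
  exact ⟨A, hA.trans hPQ, h1, h2⟩

theorem isUpper_Qs : IsUpperSet (Qs G D) := by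
  rintro P Q hPQ ⟨A, hA, h1, h2⟩
  exact ⟨A, hA.trans hPQ, h1, h2⟩

/-! ### conjugation -/

theorem card_DFix_cj [Finite D] (g : G) (A : Subgroup G) :
    Nat.card (DFix (cj g A) D) = Nat.card (DFix A D) := by
  refine Nat.card_congr ⟨fun d => ⟨g⁻¹ • d.1, ?_⟩, fun d => ⟨g • d.1, ?_⟩, ?_, ?_⟩
  · intro u hu
    have := d.2 (g * u * g⁻¹) ⟨u, hu, rfl⟩
    calc u • g⁻¹ • d.1 = g⁻¹ • ((g * u * g⁻¹) • d.1) := by
          rw [smul_smul, smul_smul]; congr 1; group
      _ = g⁻¹ • d.1 := by rw [this]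
  · rintro u ⟨v, hv, rfl⟩
    have := d.2 v hv
    calc ((MulAut.conj g).toMonoidHom v) • g • d.1 = g • v • d.1 := by
          rw [smul_smul, smul_smul]; congr 1; simp
      _ = g • d.1 := by rw [this]
  · intro d; apply Subtype.ext; simp
  · intro d; apply Subtype.ext; simp

theorem card_cj (g : G) (A : Subgroup G) : Nat.card (cj g A) = Nat.card A :=
  Nat.card_congr (A.equivMapOfInjective _ (MulAut.conj g).injective).toEquiv.symm

theorem cj_cj_inv (g : G) (A : Subgroup G) : cj g (cj g⁻¹ A) = A := by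
  ext x
  simp only [cj, Subgroup.mem_map]
  constructor
  · rintro ⟨y, ⟨z, hz, rfl⟩, rfl⟩
    simpa [mul_assoc] using hz
  · intro hx
    refine ⟨g⁻¹ * x * g, ⟨x, hx, by simp [MulAut.conj_apply]⟩, by simp [MulAut.conj_apply, mul_assoc]⟩

theorem bo_conj [Finite D] {A : Subgroup G} (h : BO D A) (g : G) : BO D (cj g A) := by
  refine ⟨?_, ?_⟩
  · rintro _ ⟨a, ha, rfl⟩ _ ⟨b, hb, rfl⟩
    rw [← map_mul, ← map_mul, h.1 a ha b hb]
  · intro B hB
    have hB' : cj g⁻¹ B ≤ A := by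
      rintro _ ⟨b, hb, rfl⟩
      obtain ⟨a, ha, hab⟩ := hB hb
      rw [← hab]
      simpa [MulAut.conj_apply, mul_assoc] using ha
    have h1 := h.2 _ hB'
    rw [card_cj, card_DFix_cj] at h1
    rw [card_cj, card_DFix_cj]
    exact h1

theorem cj_ne_bot {A : Subgroup G} (h : A ≠ ⊥) (g : G) : cj g A ≠ ⊥ := by
  intro h1
  apply h
  rw [← cj_cj_inv g⁻¹ A, inv_inv, h1]
  simp [cj]

theorem isInv_Q0 [Finite D] : IsInv (Q0 G D) := by
  rintro g P ⟨A, hA, h1, h2⟩
  exact ⟨cj g A, Subgroup.map_mono hA, cj_ne_bot h1 g, bo_conj h2 g⟩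

theorem ngood_conj {p : ℕ} {A : Subgroup G} (h : NGood p D A) (g : G) : NGood p D (cj g A) := by
  intro M hM hMi z hz hpz a ha haM
  obtain ⟨a', ha', rfl⟩ := ha
  have hM' : cj g⁻¹ M ≤ A := by
    rintro _ ⟨b, hb, rfl⟩
    obtain ⟨a, ha, hab⟩ := hM hb
    rw [← hab]
    simpa [MulAut.conj_apply, mul_assoc] using ha
  have hidx : (cj g⁻¹ M).relIndex A = p := by
    have h3 : (cj g (cj g⁻¹ M)).relIndex (cj g A) = (cj g⁻¹ M).relIndex A :=
      Subgroup.relIndex_map_map_of_injective _ _ (MulAut.conj g).injective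
    rw [← h3, cj_cj_inv, hMi]
  have h4 := h (cj g⁻¹ M) hM' hidx (g⁻¹ • z) ?_ ?_ a' ha' ?_
  · have h5 := congrArg (fun t => g • t) h4
    simp only [Finset.smul_sum] at h5
    calc ∑ i ∈ Finset.range p, ((MulAut.conj g).toMonoidHom a') ^ i • z
        = ∑ i ∈ Finset.range p, g • a' ^ i • g⁻¹ • z := by
          apply Finset.sum_congr rfl
          intro i _
          rw [smul_smul, smul_smul]
          congr 1
          have : ((MulAut.conj g).toMonoidHom a') ^ i = (MulAut.conj g).toMonoidHom (a' ^ i) := by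
            rw [map_pow]
          rw [this]; simp [MulAut.conj_apply, mul_assoc]
      _ = g • (p • g⁻¹ • z) := h5
      _ = p • z := by rw [smul_comm g p, smul_inv_smul]
  · rintro _ ⟨m, hm, rfl⟩
    have := hz m hm
    calc ((MulAut.conj g⁻¹).toMonoidHom m) • g⁻¹ • z = g⁻¹ • m • z := by
          rw [smul_smul, smul_smul]; congr 1; simp [MulAut.conj_apply, mul_assoc]
      _ = g⁻¹ • z := by rw [this]
  · intro a ha
    have := hpz ((MulAut.conj g).toMonoidHom a) ⟨a, ha, rfl⟩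
    have h5 : p • g⁻¹ • z = g⁻¹ • p • z := smul_comm _ _ _
    rw [h5]
    calc a • g⁻¹ • p • z = g⁻¹ • ((MulAut.conj g).toMonoidHom a) • p • z := by
          rw [smul_smul, smul_smul]; congr 1; simp [MulAut.conj_apply, mul_assoc]
      _ = g⁻¹ • p • z := by rw [this]
  · rintro ⟨m, hm, hma⟩
    apply haM
    rw [← hma]
    simpa [MulAut.conj_apply, mul_assoc] using hm

theorem isInv_Qs [Finite D] : IsInv (Qs G D) := by
  rintro g P ⟨A, hA, h1, h2, h3⟩
  exact ⟨cj g A, Subgroup.map_mono hA, cj_ne_bot h1 g, bo_conj h2 g, ngood_conj h3 g⟩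

theorem tv_conj {a : G} {f : D →+ ZMod 2} {z : D} (h : Tv a f z) (g : G) :
    Tv (g * a * g⁻¹) (f.comp (DistribSMul.toAddMonoidHom D g⁻¹)) (g • z) where
  ne_one := fun h1 => h.ne_one (by
    have := congrArg (fun t => g⁻¹ * t * g) h1
    simpa [mul_assoc] using this)
  sq := by
    calc g * a * g⁻¹ * (g * a * g⁻¹) = g * (a * a) * g⁻¹ := by group
      _ = 1 := by rw [h.sq]; group
  z_ne := fun h1 => h.z_ne (by
    have := congrArg (fun t => g⁻¹ • t) h1
    simpa using this)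
  two_z := by rw [← smul_add, h.two_z, smul_zero]
  f_ne := fun h1 => h.f_ne (by
    ext d
    have := DFunLike.congr_fun h1 (g • d)
    simpa using this)
  fz := by simpa using h.fz
  act := fun d => by
    have := h.act (g⁻¹ • d)
    calc (g * a * g⁻¹) • d = g • (a • g⁻¹ • d) := by rw [smul_smul, smul_smul]
      _ = g • (g⁻¹ • d + (f (g⁻¹ • d)).val • z) := by rw [this]
      _ = d + (f (g⁻¹ • d)).val • g • z := by
          rw [smul_add, smul_inv_smul, smul_comm g (f (g⁻¹ • d)).val z]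
      _ = _ := rfl

theorem isUpper_Q1 : IsUpperSet (Q1 G D) := by
  rintro P Q hPQ ⟨a, ha, f, z, h⟩
  exact ⟨a, hPQ ha, f, z, h⟩

theorem isInv_Q1 : IsInv (Q1 G D) := by
  rintro g P ⟨a, ha, f, z, h⟩
  refine ⟨g * a * g⁻¹, ⟨a, ha, by simp⟩, _, _, tv_conj h g⟩

end Cfsg.Agent.H539.Lim
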