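import Cfsg.Agent.H16.Lim.Red
import Cfsg.Agent.H539.Lim.AOne
import Cfsg.Agent.H309.Lim.Norm
import Cfsg.Agent.H729.Lim.CaseS
import Cfsg.Agent.H539.Lim.Conj
import Cfsg.Agent.H405.Lim.EvenKernel
import Cfsg.Agent.H521.Lim.CaseN
import Cfsg.Agent.H88.Lim.VanishQ1
import Cfsg.Agent.H481.Lim.Norm
import Cfsg.Agent.H71.Lim.COne2

/-!
# Claim T (helper539, for S5242): `H¹(Q0 ; D) = 0` for the subgroups containing a nontrivial best offender, `p = 2`
-/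

set_option autoImplicit false

namespace Cfsg.Agent.H539.Lim

open MulAction

universe u v w

variable {G : Type u} [Group G] {Ω : Type v} [MulAction G Ω] {D : Type w} [AddCommGroup D]
  [DistribMulAction G D]

theorem Orb2.exists_fix [Finite G] {Ω₀ : Finset Ω} (h0 : Orb2 G Ω₀) (P : Subgroup G) (hP : IsPGroup 2 P) :
    ∃ y ∈ Ω₀, P ≤ stabilizer G y := by
  obtain ⟨y, hy⟩ : Ω₀.Nonempty := by
    rw [← Finset.card_pos]
    obtain ⟨m, hm⟩ := h0.odd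
    omega
  obtain ⟨S, hS⟩ := h0.sylow y hy
  obtain ⟨S', hS'⟩ := hP.exists_le_sylow
  obtain ⟨g, hg⟩ := MulAction.exists_smul_eq G S S'
  refine ⟨g • y, h0.smul_mem g y hy, ?_⟩
  intro u hu
  have h1 : u ∈ (S' : Subgroup G) := hS' hu
  rw [← hg, Sylow.coe_subgroup_smul, hS] at h1
  rw [MulAction.stabilizer_smul_eq_stabilizer_map_conj]
  exact h1

theorem inf_smul (g : G) (x y : Ω) :
    stabilizer G (g • x) ⊓ stabilizer G (g • y) = cj g (stabilizer G x ⊓ stabilizer G y) := by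
  rw [MulAction.stabilizer_smul_eq_stabilizer_map_conj, MulAction.stabilizer_smul_eq_stabilizer_map_conj, cj,
    Subgroup.map_inf _ _ _ (MulAut.conj g).injective]

theorem mem_iff_of_isInv {V : Set (Subgroup G)} (hV : IsInv V) (g : G) (P : Subgroup G) :
    cj g P ∈ V ↔ P ∈ V := by
  refine ⟨fun h => ?_, fun h => hV g P h⟩
  have := hV g⁻¹ _ h
  have h2 := cj_cj_inv g⁻¹ P
  rw [inv_inv] at h2
  rwa [h2] at this

theorem inf_smul_mem {V : Set (Subgroup G)} (hV : IsInv V) (g : G) (x y : Ω) :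
    stabilizer G (g • x) ⊓ stabilizer G (g • y) ∈ V ↔ stabilizer G x ⊓ stabilizer G y ∈ V := by
  rw [inf_smul, mem_iff_of_isInv hV]

theorem isPGroup_st {p : ℕ} (hΩ : PSet p G Ω) (x y : Ω) :
    IsPGroup p ↥(stabilizer G x ⊓ stabilizer G y) := (hΩ.pgroup x).to_le inf_le_left

/-- a pair in `Q0` is in `Qs` or `Q1` -/
theorem Q0_sub [Finite G] [Finite D] (hD : IsPTors 2 D) {P : Subgroup G} (hP : IsPGroup 2 P)
    (h : P ∈ Q0 G D) : P ∈ Qs G D ∨ P ∈ Q1 G D := by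
  obtain ⟨A, hA, h1, h2⟩ := h
  rcases Cfsg.Agent.H71.Lim.exists_good_or_tv_two hD (hP.to_le hA) h2 h1 with ⟨B, hB, hB1, hB2, hB3⟩ | ⟨a, ha, f, z, haz⟩
  · exact Or.inl ⟨B, hB.trans hA, hB1, hB2, hB3⟩
  · exact Or.inr ⟨a, hA ha, f, z, haz⟩

theorem Qs_sub_Q0 {P : Subgroup G} (h : P ∈ Qs G D) : P ∈ Q0 G D := by
  obtain ⟨A, hA, h1, h2, -⟩ := h
  exact ⟨A, hA, h1, h2⟩

/-- the norm theorem on `Qs` -/
theorem solve_Qs [Finite G] [Finite Ω] [Finite D] (hΩ : PSet 2 G Ω) (hD : IsPTors 2 D) (c : Ω → Ω → D)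
    (hc : ∀ (g : G) x y, c (g • x) (g • y) = g • c x y)
    (hcoc : ∀ x y z, stabilizer G x ⊓ stabilizer G y ⊓ stabilizer G z ∈ Qs G D → c x z = c x y + c y z) :
    ∃ v : Ω → D, (∀ (g : G) y, v (g • y) = g • v y) ∧
        ∀ x y, stabilizer G x ⊓ stabilizer G y ∈ Qs G D → c x y = v y - v x := by
  haveI : Fact (Nat.Prime 2) := ⟨Nat.prime_two⟩
  set 𝒜 : Set (Subgroup G) := {A | IsPGroup 2 A ∧ A ≠ ⊥ ∧ BO D A ∧ NGood 2 D A} with h𝒜
  have hi : IsInv 𝒜 := by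
    rintro g A ⟨h1, h2, h3, h4⟩
    exact ⟨h1.map _, cj_ne_bot h2 g, bo_conj h3 g, ngood_conj h4 g⟩
  have hV := Cfsg.Agent.H309.Lim.van_Q hΩ hD 𝒜 hi (fun A hA => hA.1) (fun A hA => hA.2.2.2) 0
  have hup : IsUpperSet {P : Subgroup G | ∃ A ∈ 𝒜, A ≤ P} := by
    rintro P Q hPQ ⟨A, hA, hAP⟩
    exact ⟨A, hA, hAP.trans hPQ⟩
  have hinv : IsInv {P : Subgroup G | ∃ A ∈ 𝒜, A ≤ P} := by
    rintro g P ⟨A, hA, hAP⟩
    exact ⟨cj g A, hi g A hA, Subgroup.map_mono hAP⟩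
  rw [zero_add, van_one_iff hup hinv] at hV
  obtain ⟨v, hv, hv'⟩ := hV c hc (fun x y z h => hcoc x y z (by
    obtain ⟨A, hA, hAP⟩ := h
    exact ⟨A, hAP, hA.2.1, hA.2.2.1, hA.2.2.2⟩))
  refine ⟨v, hv, fun x y h => hv' x y ?_⟩
  obtain ⟨A, hA, h1, h2, h3⟩ := h
  exact ⟨A, ⟨(isPGroup_st hΩ x y).to_le hA, h1, h2, h3⟩, hA⟩

theorem smul_mem_iff {Ω₀ : Finset Ω} (h0 : Orb2 G Ω₀) (g : G) (x : Ω) : g • x ∈ Ω₀ ↔ x ∈ Ω₀ := by
  refine ⟨fun h => ?_, fun h => h0.smul_mem g x h⟩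
  have := h0.smul_mem g⁻¹ _ h
  rwa [inv_smul_smul] at this

/-! ### the vertex function of case N -/

theorem Wt_smul (g : G) (x : Ω) : Wt G D (g • x) = cj g (Wt G D x) := by
  apply le_antisymm
  · rw [Wt, Subgroup.closure_le]
    rintro a ⟨ha, f, z, h⟩
    refine ⟨g⁻¹ * a * g, Subgroup.subset_closure ⟨?_, ?_⟩, by simp [MulAut.conj_apply, mul_assoc]⟩
    · rw [mem_stabilizer_iff] at ha ⊢
      calc (g⁻¹ * a * g) • x = g⁻¹ • a • g • x := by rw [smul_smul, smul_smul]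
        _ = x := by rw [ha, inv_smul_smul]
    · have := tv_conj h g⁻¹
      rw [inv_inv] at this
      exact ⟨_, _, this⟩
  · rw [cj, Wt, MonoidHom.map_closure, Subgroup.closure_le]
    rintro _ ⟨a, ⟨ha, f, z, h⟩, rfl⟩
    refine Subgroup.subset_closure ⟨?_, ?_⟩
    · rw [mem_stabilizer_iff] at ha ⊢
      calc ((MulAut.conj g).toMonoidHom a) • g • x = g • a • x := by
            rw [smul_smul, smul_smul]; congr 1; simp [MulAut.conj_apply, mul_assoc]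
        _ = g • x := by rw [ha]
    · exact ⟨_, _, tv_conj h g⟩

theorem vN_smul {Ω₀ : Finset Ω} (h0 : Orb2 G Ω₀) {c : Ω → Ω → D}
    (hc : ∀ (g : G) x y, c (g • x) (g • y) = g • c x y) (g : G) (x : Ω) :
    vN G Ω₀ c (g • x) = g • vN G Ω₀ c x := by
  classical
  rw [vN, vN, Finset.smul_sum]
  symm
  refine Finset.sum_bij (fun y _ => g • y) ?_ ?_ ?_ ?_
  · intro y hy
    rw [Finset.mem_filter] at hy ⊢
    refine ⟨h0.smul_mem g y hy.1, ?_⟩
    rw [Wt_smul, MulAction.stabilizer_smul_eq_stabilizer_map_conj, cj,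
      Subgroup.relIndex_map_map_of_injective _ _ (MulAut.conj g).injective]
    exact hy.2
  · intro y _ z _ h
    exact smul_left_cancel g h
  · intro y hy
    rw [Finset.mem_filter] at hy
    refine ⟨g⁻¹ • y, ?_, by simp⟩
    rw [Finset.mem_filter]
    refine ⟨h0.smul_mem _ y hy.1, ?_⟩
    have h1 := hy.2
    rw [show y = g • g⁻¹ • y by simp, Wt_smul, MulAction.stabilizer_smul_eq_stabilizer_map_conj, cj,
      Subgroup.relIndex_map_map_of_injective _ _ (MulAut.conj g).injective] at h1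
    exact h1
  · intro y _
    exact (hc g x y).symm

theorem two_vN {Ω₀ : Finset Ω} {c : Ω → Ω → D} (h2 : ∀ x ∈ Ω₀, ∀ y ∈ Ω₀, 2 • c x y = 0) {x : Ω}
    (hx : x ∈ Ω₀) : 2 • vN G Ω₀ c x = 0 := by
  classical
  rw [vN, Finset.smul_sum]
  apply Finset.sum_eq_zero
  intro y hy
  exact h2 x hx y (Finset.mem_filter.mp hy).1

/-! ### the main cases, `Ω₀` and `c` with `c = 0` on `Qs` -/

/-- the case of a faithful action, `2 c = 0`, `c = 0` on `Qs` -/
theorem solve_two [Finite G] [Finite Ω] [Finite D] (hΩ : PSet 2 G Ω) (hD : IsPTors 2 D) {Ω₀ : Finset Ω}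
    (h0 : Orb2 G Ω₀) {c : Ω → Ω → D} (hc : Coc2 G Ω₀ c) (h2 : ∀ x ∈ Ω₀, ∀ y ∈ Ω₀, 2 • c x y = 0)
    (hs : ∀ x ∈ Ω₀, ∀ y ∈ Ω₀, stabilizer G x ⊓ stabilizer G y ∈ Qs G D → c x y = 0)
    (hfaith : ∀ x ∈ Ω₀, ∀ g ∈ stabilizer G x, (∀ d : D, g • d = d) → g = 1) :
    ∃ v : Ω → D, (∀ (g : G), ∀ y ∈ Ω₀, v (g • y) = g • v y) ∧
      ∀ x ∈ Ω₀, ∀ y ∈ Ω₀, stabilizer G x ⊓ stabilizer G y ∈ Q0 G D → c x y = v y - v x := by
  classical
  by_cases hS : ∃ x ∈ Ω₀, ∃ b ∈ stabilizer G x, ∃ d ∈ stabilizer G x, ∃ (f : D →+ ZMod 2) (t t' : D),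
      Tv b f t ∧ Tv d f t' ∧ b ≠ d
  · obtain ⟨x, hx, b, hbx, d, hdx, f, t, t', hb, hd, hbd⟩ := hS
    have h1 := Cfsg.Agent.H88.Lim.vanish_Q1 hΩ h0 hc h2 hfaith (fun _ => 0) (fun g y _ => (smul_zero g).symm)
      (fun y _ => smul_zero _) (by
        intro x' hx' a ha g z haz
        simp only [add_zero]
        obtain ⟨k, rfl⟩ := h0.trans x hx x' hx'
        have hb' := tv_conj hb k
        have hd' := tv_conj hd k
        refine Cfsg.Agent.H729.Lim.caseS h0 hc h2 hs hfaith hx' hb' hd' ?_ ?_ ?_ haz ha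
        · intro h
          exact hbd (by simpa using h)
        · rw [mem_stabilizer_iff] at hbx
          calc (k * b * k⁻¹) • k • x = k • b • x := by rw [smul_smul, smul_smul]; congr 1; group
            _ = k • x := by rw [hbx]
        · rw [mem_stabilizer_iff] at hdx
          calc (k * d * k⁻¹) • k • x = k • d • x := by rw [smul_smul, smul_smul]; congr 1; group
            _ = k • x := by rw [hdx])
    refine ⟨fun _ => 0, fun g y _ => (smul_zero g).symm, fun x hx y hy hxy => ?_⟩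
    rcases Q0_sub hD (isPGroup_st hΩ x y) hxy with h | h
    · rw [hs x hx y hy h, sub_zero]
    · exact h1 x hx y hy h
  · push Not at hS
    have hN : ∀ x ∈ Ω₀, _ := fun x hx => Cfsg.Agent.H521.Lim.caseN h0 hc h2 hfaith hx
      (fun a ha b hb f z t haz hbt => hS x hx a ha b hb f z t haz hbt)
    have h1 := Cfsg.Agent.H88.Lim.vanish_Q1 hΩ h0 hc h2 hfaith (vN G Ω₀ c) (fun g y _ => vN_smul h0 hc.equiv g y)
      (fun y hy => two_vN h2 hy) (fun x hx a ha f z haz => (hN x hx).1 a ha f z haz)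
    refine ⟨vN G Ω₀ c, fun g y _ => vN_smul h0 hc.equiv g y, fun x hx y hy hxy => ?_⟩
    rcases Q0_sub hD (isPGroup_st hΩ x y) hxy with h | h
    · rw [hs x hx y hy h, (hN x hx).2 hs (isUpper_Qs inf_le_left h), (hN y hy).2 hs (isUpper_Qs inf_le_right h),
        sub_zero]
    · exact h1 x hx y hy h

/-- the case `c = 0` on `Qs` -/
theorem solve_Q0 [Finite G] [Finite Ω] [Finite D] (hΩ : PSet 2 G Ω) (hD : IsPTors 2 D) {Ω₀ : Finset Ω}
    (h0 : Orb2 G Ω₀) {c : Ω → Ω → D} (hc : Coc2 G Ω₀ c)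
    (hfull : ∀ x y z, stabilizer G x ⊓ stabilizer G y ⊓ stabilizer G z ∈ Q0 G D → c x z = c x y + c y z)
    (hs : ∀ x ∈ Ω₀, ∀ y ∈ Ω₀, stabilizer G x ⊓ stabilizer G y ∈ Qs G D → c x y = 0) :
    ∃ v : Ω → D, (∀ (g : G), ∀ y ∈ Ω₀, v (g • y) = g • v y) ∧
      ∀ x ∈ Ω₀, ∀ y ∈ Ω₀, stabilizer G x ⊓ stabilizer G y ∈ Q0 G D → c x y = v y - v x := by
  classical
  by_cases hk : ∃ x ∈ Ω₀, ∃ g ∈ stabilizer G x, g ≠ 1 ∧ ∀ d : D, g • d = d
  · have h1 := Cfsg.Agent.H405.Lim.evenKernel hD h0 hc hs hk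
    refine ⟨fun _ => 0, fun g y _ => (smul_zero g).symm, fun x hx y hy hxy => ?_⟩
    rcases Q0_sub hD (isPGroup_st hΩ x y) hxy with h | h
    · rw [hs x hx y hy h, sub_zero]
    · rw [h1 x hx y hy h, sub_zero]
  have hfaith : ∀ x ∈ Ω₀, ∀ g ∈ stabilizer G x, (∀ d : D, g • d = d) → g = 1 := by
    intro x hx g hg hgd
    by_contra h1
    exact hk ⟨x, hx, g, hg, h1, hgd⟩
  by_cases hTv : ∃ x ∈ Ω₀, stabilizer G x ∈ Q1 G D
  · obtain ⟨w, hw, hw2, hws⟩ := Cfsg.Agent.H16.Lim.reduceTwo hΩ hD h0 hc hfull hfaith hTv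
    -- the truncated reduced cocycle
    set c2 : Ω → Ω → D := fun x y =>
      if x ∈ Ω₀ ∧ y ∈ Ω₀ ∧ stabilizer G x ⊓ stabilizer G y ∈ Q0 G D then c x y - (w y - w x) else 0 with hc2
    have e2 : ∀ x ∈ Ω₀, ∀ y ∈ Ω₀, stabilizer G x ⊓ stabilizer G y ∈ Q0 G D →
        c2 x y = c x y - (w y - w x) := fun x hx y hy h => if_pos ⟨hx, hy, h⟩
    have hcc : Coc2 G Ω₀ c2 := by
      refine ⟨?_, ?_, ?_⟩
      · intro g x y
        simp only [hc2]
        by_cases h : x ∈ Ω₀ ∧ y ∈ Ω₀ ∧ stabilizer G x ⊓ stabilizer G y ∈ Q0 G D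
        · rw [if_pos h, if_pos ⟨h0.smul_mem g x h.1, h0.smul_mem g y h.2.1,
            (inf_smul_mem isInv_Q0 g x y).mpr h.2.2⟩, hc.equiv, hw g x h.1, hw g y h.2.1, smul_sub, smul_sub]
        · rw [if_neg h, if_neg, smul_zero]
          rintro ⟨h1, h2, h3⟩
          exact h ⟨(smul_mem_iff h0 g x).mp h1, (smul_mem_iff h0 g y).mp h2, (inf_smul_mem isInv_Q0 g x y).mp h3⟩
      · intro x y h
        simp only [hc2]
        rw [if_neg]
        rintro ⟨-, -, h3⟩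
        exact h h3
      · intro x hx y hy z hz h
        rw [e2 x hx z hz (isUpper_Q0 (by
            exact le_inf (inf_le_left.trans inf_le_left) inf_le_right) h),
          e2 x hx y hy (isUpper_Q0 inf_le_left h),
          e2 y hy z hz (isUpper_Q0 (le_inf (inf_le_left.trans inf_le_right) inf_le_right) h),
          hc.coc x hx y hy z hz h]
        abel
    have h22 : ∀ x ∈ Ω₀, ∀ y ∈ Ω₀, 2 • c2 x y = 0 := by
      intro x hx y hy
      by_cases h : stabilizer G x ⊓ stabilizer G y ∈ Q0 G D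
      · rw [e2 x hx y hy h]; exact hw2 x hx y hy h
      · rw [hcc.supp x y h, smul_zero]
    have h2s : ∀ x ∈ Ω₀, ∀ y ∈ Ω₀, stabilizer G x ⊓ stabilizer G y ∈ Qs G D → c2 x y = 0 := by
      intro x hx y hy h
      rw [e2 x hx y hy (Qs_sub_Q0 h), hws x hx y hy h, sub_self]
    obtain ⟨v, hv, hv'⟩ := solve_two hΩ hD h0 hcc h22 h2s hfaith
    refine ⟨fun x => w x + v x, fun g y hy => by beta_reduce; rw [hw g y hy, hv g y hy, smul_add],
      fun x hx y hy h => ?_⟩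
    have h1 := hv' x hx y hy h
    rw [e2 x hx y hy h] at h1
    have h3 : c x y = (w y - w x) + (v y - v x) := by rw [← h1]; abel
    beta_reduce
    rw [h3]; abel
  · refine ⟨fun _ => 0, fun g y _ => (smul_zero g).symm, fun x hx y hy hxy => ?_⟩
    rcases Q0_sub hD (isPGroup_st hΩ x y) hxy with h | h
    · rw [hs x hx y hy h, sub_zero]
    · exact absurd ⟨x, hx, isUpper_Q1 inf_le_left h⟩ hTv

/-- **Claim T** -/
theorem claimT [Finite G] [Finite Ω] [Finite D] (hΩ : PSet 2 G Ω) (hD : IsPTors 2 D) :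
    Van G Ω D {P | ∃ A : Subgroup G, A ≤ P ∧ A ≠ ⊥ ∧ BO D A} 1 := by
  classical
  haveI : Fact (Nat.Prime 2) := ⟨Nat.prime_two⟩
  change Van G Ω D (Q0 G D) 1
  rw [van_one_iff isUpper_Q0 isInv_Q0]
  intro c hc hcoc
  obtain ⟨Ω₀, o1, o2, o3, o4, o5⟩ := Cfsg.Agent.H481.Lim.exists_orbit (p := 2) hΩ
  have h0 : Orb2 G Ω₀ := ⟨o1, o2, o3, by
    rw [← Nat.not_even_iff_odd]
    intro h
    exact o4 h.two_dvd⟩
  obtain ⟨u, hu, hu'⟩ := solve_Qs hΩ hD c hc (fun x y z h => hcoc x y z (Qs_sub_Q0 h))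
  set c1 : Ω → Ω → D := fun x y =>
    if stabilizer G x ⊓ stabilizer G y ∈ Q0 G D then c x y - (u y - u x) else 0 with hc1
  have e1 : ∀ x y, stabilizer G x ⊓ stabilizer G y ∈ Q0 G D → c1 x y = c x y - (u y - u x) :=
    fun x y h => if_pos h
  have hequiv : ∀ (g : G) x y, c1 (g • x) (g • y) = g • c1 x y := by
    intro g x y
    simp only [hc1]
    by_cases h : stabilizer G x ⊓ stabilizer G y ∈ Q0 G D
    · rw [if_pos h, if_pos ((inf_smul_mem isInv_Q0 g x y).mpr h), hc, hu, hu, smul_sub, smul_sub]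
    · rw [if_neg h, if_neg (fun h' => h ((inf_smul_mem isInv_Q0 g x y).mp h')), smul_zero]
  have hfull : ∀ x y z, stabilizer G x ⊓ stabilizer G y ⊓ stabilizer G z ∈ Q0 G D →
      c1 x z = c1 x y + c1 y z := by
    intro x y z h
    rw [e1 x z (isUpper_Q0 (le_inf (inf_le_left.trans inf_le_left) inf_le_right) h),
      e1 x y (isUpper_Q0 inf_le_left h),
      e1 y z (isUpper_Q0 (le_inf (inf_le_left.trans inf_le_right) inf_le_right) h), hcoc x y z h]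
    abel
  have hcc : Coc2 G Ω₀ c1 := ⟨hequiv, fun x y h => if_neg h, fun x _ y _ z _ h => hfull x y z h⟩
  obtain ⟨v, hv, hv'⟩ := solve_Q0 hΩ hD h0 hcc hfull (fun x _ y _ h => by
    rw [e1 x y (Qs_sub_Q0 h), hu' x y h, sub_self])
  refine van_one_of_orbit (p := 2) hΩ isUpper_Q0 isInv_Q0 Ω₀ o1 h0.exists_fix c hc hcoc
    (fun x => u x + v x) (fun g y hy => by beta_reduce; rw [hu g y, hv g y hy, smul_add])
    (fun x hx y hy h => ?_)
  have h1 := hv' x hx y hy h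
  rw [e1 x y h] at h1
  have h3 : c x y = (u y - u x) + (v y - v x) := by rw [← h1]; abel
  beta_reduce
  rw [h3]; abel

end Cfsg.Agent.H539.Lim
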