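import Cfsg.Agent.H539.Lim.Defs

/-!
# The centre functor on the centric `p`-subgroups (helper539, for S5242)
-/

set_option autoImplicit false

namespace Cfsg.Agent.H539.Lim

open MulAction

universe u v

/-- `Z(P)` if `P` is a centric `p`-subgroup, trivial otherwise -/
def zc (p : ℕ) {G : Type u} [Group G] (P : Subgroup G) : Subgroup G where
  carrier := {z | z ∈ P ∧ (∀ u ∈ P, z * u = u * z) ∧ (z = 1 ∨ (Centric p P ∧ IsPGroup p P))}
  one_mem' := ⟨P.one_mem, fun u _ => by simp, Or.inl rfl⟩
  mul_mem' := by
    rintro a b ⟨ha, ha', ha''⟩ ⟨hb, hb', hb''⟩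
    refine ⟨P.mul_mem ha hb, fun u hu => ?_, ?_⟩
    · rw [mul_assoc, hb' u hu, ← mul_assoc, ha' u hu, mul_assoc]
    · rcases ha'' with rfl | h
      · rcases hb'' with rfl | h
        · left; simp
        · right; exact h
      · right; exact h
  inv_mem' := by
    rintro a ⟨ha, ha', ha''⟩
    refine ⟨P.inv_mem ha, fun u hu => ?_, ?_⟩
    · have := ha' u hu
      calc a⁻¹ * u = a⁻¹ * (u * a) * a⁻¹ := by group
        _ = a⁻¹ * (a * u) * a⁻¹ := by rw [this]
        _ = u * a⁻¹ := by group
    · rcases ha'' with rfl | h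
      · left; simp
      · right; exact h

instance (p : ℕ) {G : Type u} [Group G] (P : Subgroup G) : CommGroup ↥(zc p P) :=
  { (inferInstance : Group ↥(zc p P)) with
    mul_comm := fun a b => Subtype.ext (a.2.2.1 b.1 b.2.1) }

theorem zc_conj (p : ℕ) {G : Type u} [Group G] {g : G} {P Q : Subgroup G} (h : ∀ u ∈ P, g * u * g⁻¹ ∈ Q)
    (hP : Centric p P ∧ IsPGroup p P) (z : G) (hz : z ∈ zc p Q) : g⁻¹ * z * g ∈ zc p P := by
  obtain ⟨hzQ, hzc, h1⟩ := hz
  rcases h1 with rfl | ⟨-, hQ⟩
  · simp
  · have hcomm : ∀ u ∈ P, g⁻¹ * z * g * u = u * (g⁻¹ * z * g) := by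
      intro u hu
      have := hzc _ (h u hu)
      calc g⁻¹ * z * g * u = g⁻¹ * (z * (g * u * g⁻¹)) * g := by group
        _ = g⁻¹ * (g * u * g⁻¹ * z) * g := by rw [this]
        _ = u * (g⁻¹ * z * g) := by group
    refine ⟨hP.1 _ hcomm ?_, hcomm, Or.inr hP⟩
    obtain ⟨k, hk⟩ := hQ ⟨z, hzQ⟩
    refine ⟨k, ?_⟩
    have hk' : z ^ p ^ k = 1 := congrArg Subtype.val hk
    have : (g⁻¹ * z * g) ^ p ^ k = g⁻¹ * z ^ p ^ k * g := by
      have := conj_pow (a := g⁻¹) (b := z) (i := p ^ k)
      simpa using this
    rw [this, hk']; simp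

open Classical in
/-- the centre functor -/
noncomputable def Coef.Z (p : ℕ) (G : Type u) [Group G] : Coef.{u, u} G where
  M P := Additive ↥(zc p P)
  acg _ := inferInstance
  τ g P Q h :=
    { toFun := fun z => Additive.ofMul (if hP : Centric p P ∧ IsPGroup p P then
        ⟨g⁻¹ * ((Additive.toMul z : ↥(zc p Q)) : G) * g, zc_conj p h hP _ (Additive.toMul z).2⟩ else 1)
      map_zero' := by
        by_cases hP : Centric p P ∧ IsPGroup p P
        · simp only [hP, and_self, dif_pos]
          apply congrArg Additive.ofMul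
          apply Subtype.ext
          simp
        · simp [hP]
      map_add' := fun a b => by
        by_cases hP : Centric p P ∧ IsPGroup p P
        · simp only [dif_pos hP]
          rw [← ofMul_mul]
          apply congrArg Additive.ofMul
          apply Subtype.ext
          simp only [toMul_add, Subgroup.coe_mul]
          group
        · simp [dif_neg hP] }
  τ_comp g h P Q R h1 h2 h3 m := by
    apply congrArg Additive.ofMul
    by_cases hP : Centric p P ∧ IsPGroup p P
    · simp only [dif_pos hP]
      apply Subtype.ext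
      by_cases hQ : Centric p Q ∧ IsPGroup p Q
      · show g⁻¹ * (if hQ : Centric p Q ∧ IsPGroup p Q then
          (⟨h⁻¹ * ((Additive.toMul m : ↥(zc p R)) : G) * h, zc_conj p h2 hQ _ (Additive.toMul m).2⟩ : ↥(zc p Q))
            else 1 : ↥(zc p Q)).1 * g = _
        rw [dif_pos hQ]
        show g⁻¹ * (h⁻¹ * ((Additive.toMul m : ↥(zc p R)) : G) * h) * g =
          (h * g)⁻¹ * ((Additive.toMul m : ↥(zc p R)) : G) * (h * g)
        group
      · show g⁻¹ * (if hQ : Centric p Q ∧ IsPGroup p Q then
          (⟨h⁻¹ * ((Additive.toMul m : ↥(zc p R)) : G) * h, zc_conj p h2 hQ _ (Additive.toMul m).2⟩ : ↥(zc p Q))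
            else 1 : ↥(zc p Q)).1 * g =
          (h * g)⁻¹ * ((Additive.toMul m : ↥(zc p R)) : G) * (h * g)
        rw [dif_neg hQ]
        -- `R` is not a `p`-group with nontrivial `zc`, as `P` centric implies `Q` centric
        have hm : ((Additive.toMul m : ↥(zc p R)) : G) = 1 := by
          rcases (Additive.toMul m).2.2.2 with h0 | ⟨-, hR⟩
          · exact h0
          · exfalso
            apply hQ
            have hQp : IsPGroup p Q := by
              intro x
              obtain ⟨k, hk⟩ := hR ⟨h * x * h⁻¹, h2 x x.2⟩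
              refine ⟨k, Subtype.ext ?_⟩
              have hk' : (h * (x : G) * h⁻¹) ^ p ^ k = 1 := congrArg Subtype.val hk
              rw [conj_pow] at hk'
              have : (x : G) ^ p ^ k = 1 := by
                have := congrArg (fun t => h⁻¹ * t * h) hk'
                simpa [mul_assoc] using this
              exact this
            refine ⟨fun u hu hk => ?_, hQp⟩
            have h5 : g⁻¹ * u * g ∈ P := by
              apply hP.1
              · intro v hv
                have := hu _ (h1 v hv)
                calc g⁻¹ * u * g * v = g⁻¹ * (u * (g * v * g⁻¹)) * g := by group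
                  _ = g⁻¹ * (g * v * g⁻¹ * u) * g := by rw [this]
                  _ = v * (g⁻¹ * u * g) := by group
              · obtain ⟨k, hk⟩ := hk
                refine ⟨k, ?_⟩
                have := conj_pow (a := g⁻¹) (b := u) (i := p ^ k)
                rw [show g⁻¹ * u * g = g⁻¹ * u * g⁻¹⁻¹ by simp, this, hk]; simp
            have h6 := h1 _ h5
            simpa [mul_assoc] using h6
        rw [hm]; simp
    · simp only [dif_neg hP]
  τ_inner P u hu h m := by
    show Additive.ofMul _ = m
    by_cases hP : Centric p P ∧ IsPGroup p P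
    · simp only [dif_pos hP]
      have : (⟨u⁻¹ * ((Additive.toMul m : ↥(zc p P)) : G) * u, zc_conj p h hP _ (Additive.toMul m).2⟩ :
          ↥(zc p P)) = Additive.toMul m := by
        apply Subtype.ext
        show u⁻¹ * ((Additive.toMul m : ↥(zc p P)) : G) * u = _
        rw [mul_assoc, (Additive.toMul m).2.2.1 u hu, ← mul_assoc]; simp
      rw [this]; rfl
    · simp only [dif_neg hP]
      have : Additive.toMul m = 1 := by
        apply Subtype.ext
        rcases (Additive.toMul m).2.2.2 with h0 | h0
        · exact h0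
        · exact absurd h0 hP
      rw [← this]; rfl

end Cfsg.Agent.H539.Lim
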