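import Cfsg.Agent.H291.Lim.Off
import Cfsg.Agent.H296.Lim.GoodBO
import Cfsg.Agent.H539.Lim.ClaimT
import Cfsg.Agent.H539.Lim.Filt
import Cfsg.Agent.H95.Lim.Local

/-!
# D3: the local theorem (helper539, for S5242; offender lemmas by helper291)
-/

set_option autoImplicit false

namespace Cfsg.Agent.H539.Lim

open MulAction Cfsg.Agent.H291.Lim

universe u v w

/-! ### the quotient by a normal subgroup acting trivially -/

section Quot

variable {H : Type u} [Group H] (Y : Subgroup H) [Y.Normal] {Ω : Type v} [MulAction H Ω] {D : Type w}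
  [AddCommGroup D] [DistribMulAction H D]

/-- the action of `H / Y` on `Ω` -/
@[instance_reducible] def qAct (hY : ∀ x : Ω, Y ≤ stabilizer H x) : MulAction (H ⧸ Y) Ω :=
  MulAction.compHom Ω (QuotientGroup.lift Y (MulAction.toPermHom H Ω) (by
    intro u hu
    ext x
    exact hY x hu))

/-- the action of `H / Y` on `D` -/
@[instance_reducible] def qActD (hY : ∀ u ∈ Y, ∀ d : D, u • d = d) : DistribMulAction (H ⧸ Y) D where
  smul q d := QuotientGroup.lift Y (MulAction.toPermHom H D) (by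
    intro u hu
    ext x
    exact hY u hu x) q d
  one_smul d := by
    change QuotientGroup.lift Y (MulAction.toPermHom H D) _ 1 d = d
    rw [map_one]; rfl
  mul_smul a b d := by
    change QuotientGroup.lift Y (MulAction.toPermHom H D) _ (a * b) d =
      QuotientGroup.lift Y (MulAction.toPermHom H D) _ a (QuotientGroup.lift Y (MulAction.toPermHom H D) _ b d)
    rw [map_mul]; rfl
  smul_zero q := by
    obtain ⟨g, rfl⟩ := QuotientGroup.mk'_surjective Y q
    exact smul_zero g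
  smul_add q a b := by
    obtain ⟨g, rfl⟩ := QuotientGroup.mk'_surjective Y q
    exact smul_add g a b

theorem card_comap_mk [Finite H] (B : Subgroup (H ⧸ Y)) :
    Nat.card (B.comap (QuotientGroup.mk' Y)) = Nat.card Y * Nat.card B := by
  have h1 := Subgroup.card_mul_index (B.comap (QuotientGroup.mk' Y))
  have h2 := Subgroup.card_mul_index B
  have h3 := Subgroup.index_comap_of_surjective B (QuotientGroup.mk'_surjective Y)
  have h4 := Subgroup.card_eq_card_quotient_mul_card_subgroup Y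
  have h5 : B.index ≠ 0 := Subgroup.index_ne_zero_of_finite
  rw [h3] at h1
  apply Nat.eq_of_mul_eq_mul_right (Nat.pos_of_ne_zero h5)
  rw [h1, h4, ← h2]; ring

end Quot

theorem starY_quot {p : ℕ} [Fact p.Prime] {H : Type u} [Group H] [Finite H] (Y : Subgroup H) [Y.Normal]
    {Ω : Type v} [MulAction H Ω] [Finite Ω] {D : Type w} [AddCommGroup D] [DistribMulAction H D] [Finite D]
    (hΩ : PSet p H Ω) (hD : IsPTors p D)
    (hY : ∀ x : Ω, Y ≤ stabilizer H x) (hYD : ∀ u ∈ Y, ∀ d : D, u • d = d)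
    (n : ℕ)
    (hstar : ∀ (_ : MulAction (H ⧸ Y) Ω) (_ : DistribMulAction (H ⧸ Y) D), PSet p (H ⧸ Y) Ω →
      ∀ R : Set (Subgroup (H ⧸ Y)), IsInv R → ⊥ ∈ R → IsLowerSet R →
        (∀ P : Subgroup (H ⧸ Y), IsPGroup p P → JD D P ∈ R → P ∈ R) → Van (H ⧸ Y) Ω D R (n + 2))
    (R : Set (Subgroup H)) (hRi : IsInv R) (hYR : Y ∈ R)
    (hlow : ∀ P ∈ R, ∀ Q : Subgroup H, Y ≤ Q → Q ≤ P → Q ∈ R)
    (hJ : ∀ P : Subgroup H, IsPGroup p P → Y ≤ P → JDY Y D P ∈ R → P ∈ R) : Van H Ω D R (n + 2) := by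
  classical
  rcases isEmpty_or_nonempty Ω with he | ⟨⟨x₀⟩⟩
  · exact Cfsg.Agent.H309.Lim.van_of_isEmpty _
  have hYp : IsPGroup p Y := (hΩ.pgroup x₀).to_le (hY x₀)
  letI i1 : MulAction (H ⧸ Y) Ω := qAct Y hY
  letI i2 : DistribMulAction (H ⧸ Y) D := qActD Y hYD
  have a1 : ∀ (g : H) (x : Ω), g • x = (QuotientGroup.mk' Y g) • x := fun g x => rfl
  have a2 : ∀ (g : H) (d : D), g • d = (QuotientGroup.mk' Y g) • d := fun g d => rfl
  have hst1 : ∀ x : Ω, (stabilizer (H ⧸ Y) x).comap (QuotientGroup.mk' Y) = stabilizer H x := by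
    intro x; ext g
    simp only [Subgroup.mem_comap, mem_stabilizer_iff, a1]
  have hst : ∀ (k : ℕ) (x : Fin k → Ω), (st (H ⧸ Y) x).comap (QuotientGroup.mk' Y) = st H x := by
    intro k x; ext g
    simp only [Subgroup.mem_comap, mem_stabilizer_iff]
    rfl
  have hsurj := QuotientGroup.mk'_surjective Y
  have hker : (QuotientGroup.mk' Y).ker = Y := QuotientGroup.ker_mk' Y
  have hΩ' : PSet p (H ⧸ Y) Ω := by
    refine ⟨fun x => ?_, fun P hP => ?_⟩
    · have h1 : stabilizer (H ⧸ Y) x = (stabilizer H x).map (QuotientGroup.mk' Y) := by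
        rw [← hst1, Subgroup.map_comap_eq_self_of_surjective hsurj]
      rw [h1]
      exact (hΩ.pgroup x).map _
    · have h1 : IsPGroup p (P.comap (QuotientGroup.mk' Y)) :=
        hP.comap_of_ker_isPGroup _ (by rw [hker]; exact hYp)
      obtain ⟨x, hx⟩ := hΩ.exists_fix _ h1
      refine ⟨x, ?_⟩
      rw [← hst1] at hx
      exact (Subgroup.comap_le_comap_of_surjective hsurj).mp hx
  set R' : Set (Subgroup (H ⧸ Y)) := {P | P.comap (QuotientGroup.mk' Y) ∈ R} with hR'
  have key := hstar i1 i2 hΩ' R' ?_ ?_ ?_ ?_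
  · exact van_of_surj (QuotientGroup.mk' Y) hsurj a1 a2 (V' := R')
      (fun k x => by rw [hR', Set.mem_setOf_eq, hst]) key
  · intro g P hP
    obtain ⟨g', rfl⟩ := hsurj g
    have h1 : (cj (QuotientGroup.mk' Y g') P).comap (QuotientGroup.mk' Y) =
        cj g' (P.comap (QuotientGroup.mk' Y)) := by
      ext x
      rw [Subgroup.mem_comap, H291.Lim.mem_cj, H291.Lim.mem_cj, Subgroup.mem_comap]
      simp only [map_mul, map_inv]
    rw [hR', Set.mem_setOf_eq, h1]
    exact hRi g' _ hP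
  · rw [hR', Set.mem_setOf_eq, MonoidHom.comap_bot, hker]
    exact hYR
  · intro P Q hQP hP
    refine hlow _ hP _ ?_ (Subgroup.comap_mono hQP)
    exact le_of_eq_of_le hker.symm (MonoidHom.ker_le_comap _ _)
  · intro P hP hPR
    have hYP : Y ≤ P.comap (QuotientGroup.mk' Y) := le_of_eq_of_le hker.symm (MonoidHom.ker_le_comap _ _)
    refine hJ _ (hP.comap_of_ker_isPGroup _ (by rw [hker]; exact hYp)) hYP ?_
    refine hlow _ hPR _ ?_ ?_
    · refine le_sSup ⟨hYP, le_rfl, ?_, ?_⟩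
      · intro a ha b hb
        exact Y.mul_mem (Y.mul_mem (Y.mul_mem ha hb) (Y.inv_mem ha)) (Y.inv_mem hb)
      · intro B h1 h2
        rw [le_antisymm h2 h1]
    · refine sSup_le ?_
      rintro A ⟨hAP, hYA, hAab, hAB⟩
      have hAc : (A.map (QuotientGroup.mk' Y)).comap (QuotientGroup.mk' Y) = A := by
        rw [Subgroup.comap_map_eq, hker, sup_eq_left.mpr hYA]
      have hBO : BO D (A.map (QuotientGroup.mk' Y)) := by
        refine ⟨?_, ?_⟩
        · rintro _ ⟨a, ha, rfl⟩ _ ⟨b, hb, rfl⟩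
          have h1 := hAab a ha b hb
          rw [← hker, MonoidHom.mem_ker] at h1
          simp only [map_mul, map_inv] at h1
          have h2 := mul_eq_one_iff_eq_inv.mp h1
          rw [inv_inv] at h2
          have h3 := mul_inv_eq_iff_eq_mul.mp h2
          exact h3
        · intro B hB
          have hB1 : Y ≤ B.comap (QuotientGroup.mk' Y) := le_of_eq_of_le hker.symm (MonoidHom.ker_le_comap _ _)
          have hB2 : B.comap (QuotientGroup.mk' Y) ≤ A := by
            rw [← hAc]; exact Subgroup.comap_mono hB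
          have h1 := hAB _ hB1 hB2
          have e1 : ∀ C : Subgroup (H ⧸ Y), Nat.card (DFix (C.comap (QuotientGroup.mk' Y)) D) =
              Nat.card (DFix C D) := by
            intro C
            refine Nat.card_congr
              { toFun := fun d => ⟨d.1, fun u hu => ?_⟩
                invFun := fun d => ⟨d.1, fun u hu => ?_⟩
                left_inv := fun d => rfl
                right_inv := fun d => rfl }
            · obtain ⟨g, rfl⟩ := hsurj u
              exact d.2 g hu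
            · exact d.2 (QuotientGroup.mk' Y u) hu
          have e2 : Nat.card A = Nat.card Y * Nat.card (A.map (QuotientGroup.mk' Y)) := by
            rw [← card_comap_mk, hAc]
          have e3 : Nat.card (DFix A D) = Nat.card (DFix (A.map (QuotientGroup.mk' Y)) D) := by
            rw [← e1, hAc]
          rw [e1, card_comap_mk, e2, e3] at h1
          have h2 : 0 < Nat.card Y := Nat.card_pos
          refine Nat.le_of_mul_le_mul_left (c := Nat.card Y) ?_ h2
          calc _ = Nat.card Y * Nat.card B * Nat.card (DFix B D) := by ring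
            _ ≤ _ := h1
            _ = _ := by ring
      have h2 : A.map (QuotientGroup.mk' Y) ≤ P := Subgroup.map_le_iff_le_comap.mpr hAP
      rw [← hAc]
      exact Subgroup.comap_mono (le_JD hBO h2)

/-! ### the pieces -/

/-- the set `{P ∈ R | |J(P)| = i}` -/
theorem piece {p : ℕ} [Fact p.Prime] {G : Type u} [Group G] [Finite G] {Ω : Type v} [MulAction G Ω] [Finite Ω]
    {D : Type w} [AddCommGroup D] [DistribMulAction G D] [Finite D] (hΩ : PSet p G Ω) (hD : IsPTors p D) (n : ℕ)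
    (IH : ∀ (H : Type u) [Group H] [Finite H] (Ω' : Type v) [MulAction H Ω'] [Finite Ω'] (D' : Type w)
      [AddCommGroup D'] [DistribMulAction H D'] [Finite D'], Nat.card H < Nat.card G → PSet p H Ω' →
      IsPTors p D' → ∀ R : Set (Subgroup H), IsInv R → ⊥ ∈ R → IsLowerSet R →
        (∀ P : Subgroup H, IsPGroup p P → JD D' P ∈ R → P ∈ R) → Van H Ω' D' R (n + 2))
    (R : Set (Subgroup G)) (hRi : IsInv R) (hlow : IsLowerSet R)
    (hJ : ∀ P : Subgroup G, IsPGroup p P → JD D P ∈ R → P ∈ R) (i : ℕ) (hi : i ≠ 1) :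
    Van G Ω D {P | P ∈ R ∧ Nat.card (JD D P) = i} (n + 2) := by
  classical
  set V : Set (Subgroup G) := {P | P ∈ R ∧ Nat.card (JD D P) = i} with hV
  have hVi : IsInv V := by
    rintro g P ⟨h1, h2⟩
    exact ⟨hRi g P h1, by rw [JD_cj, H291.Lim.card_cj]; exact h2⟩
  refine Cfsg.Agent.H95.Lim.van_of_local hΩ hVi (JD D) (fun P _ => JD_le P) (fun g P _ => JD_cj g P) ?_ (n + 2) ?_
  · rintro P ⟨hP, hPi⟩ Q ⟨hQ, hQi⟩ hPQ
    exact Subgroup.eq_of_le_of_card_ge (JD_mono hPQ) (by rw [hPi, hQi])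
  rintro P ⟨hPR, hPi⟩
  set J₀ : Subgroup G := JD D P with hJ₀
  have hJJ : JD D J₀ = J₀ := JD_JD P
  have hJR : J₀ ∈ R := hlow (JD_le P) hPR
  by_cases hJp : IsPGroup p J₀
  swap
  · have : IsEmpty (FixPt J₀ Ω) := ⟨fun y => hJp ((hΩ.pgroup y.1).to_le y.2)⟩
    exact Cfsg.Agent.H309.Lim.van_of_isEmpty _
  have hΩ' := Cfsg.Agent.H95.Lim.pset_fixPt hΩ J₀ hJp
  set Y : Subgroup (Nz J₀) := J₀.subgroupOf (Nz J₀) with hYdef
  have hJN : J₀ ≤ Nz J₀ := Subgroup.le_normalizer
  haveI hYn : Y.Normal := Subgroup.normal_in_normalizer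
  have hYmap : Y.map (Nz J₀).subtype = J₀ := by
    rw [hYdef, Subgroup.subgroupOf_map_subtype, inf_eq_left.2 hJN]
  have hYfix : ∀ x : FixPt J₀ Ω, Y ≤ stabilizer (Nz J₀) x := by
    intro x u hu
    rw [mem_stabilizer_iff]
    apply Subtype.ext
    rw [FixPt.coe_smul]
    exact x.2 hu
  refine van_fix Y hYfix ?_
  refine starY_quot Y hΩ' ?_ hYfix (fun u hu (d : DFix Y D) => Subtype.ext (d.2 u hu)) n ?_ _ ?_ ?_ ?_ ?_
  · intro d
    obtain ⟨k, hk⟩ := hD d.1
    exact ⟨k, Subtype.ext (by simpa using hk)⟩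
  · intro j1 j2 hPS R' r1 r2 r3 r4
    refine IH (Nz J₀ ⧸ Y) (FixPt J₀ Ω) (DFix Y D) ?_ hPS ?_ R' r1 r2 r3 r4
    · have h1 := Subgroup.card_eq_card_quotient_mul_card_subgroup Y
      have h2 : Nat.card (Nz J₀) ≤ Nat.card G := Subgroup.card_le_card_group _
      have h3 : Nat.card Y = i := by
        rw [← hPi, ← Subgroup.card_subtype, hYmap]
      have h4 : 0 < Nat.card Y := Nat.card_pos
      have h5 : 2 ≤ Nat.card Y := by omega
      have h6 : 0 < Nat.card (Nz J₀ ⧸ Y) := Nat.card_pos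
      nlinarith
    · intro d
      obtain ⟨k, hk⟩ := hD d.1
      exact ⟨k, Subtype.ext (by simpa using hk)⟩
  · -- invariance
    rintro g Q ⟨hQ1, hQ2⟩
    have e1 : (cj g Q).map (Nz J₀).subtype = cj (g : G) (Q.map (Nz J₀).subtype) := by
      ext x
      constructor
      · rintro ⟨_, ⟨y, hy, rfl⟩, rfl⟩
        exact ⟨y, ⟨y, hy, rfl⟩, by simp⟩
      · rintro ⟨_, ⟨y, hy, rfl⟩, rfl⟩
        exact ⟨_, ⟨y, hy, rfl⟩, by simp⟩
    rw [Set.mem_setOf_eq, e1]
    refine ⟨hVi _ _ hQ1, ?_⟩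
    rw [JD_cj, hQ2]
    ext x
    rw [H291.Lim.mem_cj]
    have := Subgroup.mem_normalizer_iff.mp (Subgroup.inv_mem _ g.2) x
    rw [inv_inv] at this
    exact this.symm
  · rw [Set.mem_setOf_eq, hYmap]
    exact ⟨⟨hJR, by rw [hJJ]; exact hPi⟩, hJJ⟩
  · rintro Q ⟨⟨hQ1, hQi⟩, hQ2⟩ Q' hYQ' hQ'Q
    have h1 : Q'.map (Nz J₀).subtype ≤ Q.map (Nz J₀).subtype := Subgroup.map_mono hQ'Q
    have h2 : J₀ ≤ Q'.map (Nz J₀).subtype := hYmap.symm.le.trans (Subgroup.map_mono hYQ')
    have h3 : JD D (Q'.map (Nz J₀).subtype) = J₀ :=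
      le_antisymm ((JD_mono h1).trans hQ2.le) (hJJ.symm.le.trans (JD_mono h2))
    exact ⟨⟨hlow h1 hQ1, by rw [h3]; exact hPi⟩, h3⟩
  · rintro Q hQp hYQ ⟨-, hQ2⟩
    have hQmp : IsPGroup p (Q.map (Nz J₀).subtype) := hQp.map _
    have h2 : J₀ ≤ Q.map (Nz J₀).subtype := hYmap.symm.le.trans (Subgroup.map_mono hYQ)
    have h3 : JD D (Q.map (Nz J₀).subtype) = J₀ := by
      apply le_antisymm
      · refine sSup_le ?_
        rintro A ⟨hAQ, hAB⟩
        have hAN : A ≤ Nz J₀ := hAQ.trans (by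
          rintro _ ⟨y, -, rfl⟩; exact y.2)
        have hA1 : BO D (A.subgroupOf (Nz J₀)) := bo_subgroupOf hAB hAN
        have hA2 := bo_boy hA1 Y
        have hA3 : A.subgroupOf (Nz J₀) ≤ Q := by
          intro x hx
          obtain ⟨y, hy, hyx⟩ := hAQ hx
          have : y = x := Subtype.ext hyx
          rw [← this]; exact hy
        have hA4 : A.subgroupOf (Nz J₀) ⊔ Y ≤ JDY Y (DFix Y D) Q := le_sSup ⟨sup_le hA3 hYQ, hA2⟩
        have hA5 : A ≤ (JDY Y (DFix Y D) Q).map (Nz J₀).subtype := by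
          intro x hx
          exact ⟨⟨x, hAN hx⟩, hA4 (Subgroup.mem_sup_left hx), rfl⟩
        exact (le_JD hAB hA5).trans hQ2.le
      · exact hJJ.symm.le.trans (JD_mono h2)
    exact ⟨⟨hJ _ hQmp (by rw [h3]; exact hJR), by rw [h3]; exact hPi⟩, h3⟩

/-- the set without nontrivial best offenders -/
theorem van_nobo {p : ℕ} [Fact p.Prime] {G : Type u} [Group G] [Finite G] {Ω : Type v} [MulAction G Ω] [Finite Ω]
    {D : Type w} [AddCommGroup D] [DistribMulAction G D] [Finite D] (hΩ : PSet p G Ω) (hD : IsPTors p D)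
    (IH : ∀ (n : ℕ) (H : Type u) [Group H] [Finite H] (Ω' : Type v) [MulAction H Ω'] [Finite Ω'] (D' : Type w)
      [AddCommGroup D'] [DistribMulAction H D'] [Finite D'], Nat.card H < Nat.card G → PSet p H Ω' →
      IsPTors p D' → ∀ R : Set (Subgroup H), IsInv R → ⊥ ∈ R → IsLowerSet R →
        (∀ P : Subgroup H, IsPGroup p P → JD D' P ∈ R → P ∈ R) → Van H Ω' D' R (n + 2)) (n : ℕ) :
    Van G Ω D {P | JD D P = ⊥} (n + 2) := by
  classical
  have hstp : ∀ (k : ℕ) (x : Fin (k + 1) → Ω), IsPGroup p (st G x) := fun k x =>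
    (hΩ.pgroup (x 0)).to_le (fun g hg => congrFun (hg : g • x = x) 0)
  by_cases hp : p = 2
  · subst hp
    -- `Van Q0 (m+1)`
    have hQ : ∀ m : ℕ, Van G Ω D (Q0 G D) (m + 1) := by
      intro m
      cases m with
      | zero => exact claimT hΩ hD
      | succ m =>
        refine van_of_filt isUpper_Q0.ordConnected isInv_Q0 (fun P => Nat.card (JD D P)) ?_ ?_ (m + 2) ?_
        · intro P _ Q _ hPQ
          exact Nat.card_le_card_of_injective _ (Subgroup.inclusion_injective (JD_mono hPQ))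
        · intro g P _
          show Nat.card (JD D (cj g P)) = Nat.card (JD D P)
          rw [JD_cj, H291.Lim.card_cj]
        · intro i
          by_cases hi : i = 1
          · refine Cfsg.Agent.H309.Lim.van_of_forall_not (fun k x hx => ?_) _
            obtain ⟨h1, h2⟩ := hx
            rw [hi, Subgroup.card_eq_one] at h2
            exact JD_ne_bot_iff.mpr h1 h2
          · refine Cfsg.Agent.H309.Lim.van_congr (V' := {P | P ∈ Set.univ ∧ Nat.card (JD D P) = i}) (fun k x => ?_)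
              (piece hΩ hD m (IH m) Set.univ (fun _ _ _ => trivial) (fun _ _ _ _ => trivial)
                (fun _ _ _ => trivial) i hi)
            constructor
            · rintro ⟨-, h⟩; exact ⟨trivial, h⟩
            · rintro ⟨-, h⟩
              refine ⟨JD_ne_bot_iff.mp (fun h0 => hi ?_), h⟩
              rw [← h, h0, Subgroup.card_bot]
    have h1 := Cfsg.Agent.H223.Lim.van_two2 (V := Set.univ) (U := Q0 G D) (n := n + 1) (D := D) (Ω := Ω)
      Set.ordConnected_univ (fun _ _ _ => trivial) isUpper_Q0 isInv_Q0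
      (Cfsg.Agent.H842.Lim.van_all hΩ hD (fun _ _ => trivial) (n + 1))
      (Cfsg.Agent.H309.Lim.van_congr (V' := Q0 G D) (fun k x => by simp) (hQ n))
    refine Cfsg.Agent.H309.Lim.van_congr (fun k x => ?_) h1
    constructor
    · intro h
      refine ⟨trivial, fun h' => JD_ne_bot_iff.mpr h' h⟩
    · rintro ⟨-, h⟩
      by_contra h'
      exact h (JD_ne_bot_iff.mp h')
  · set 𝒜 : Set (Subgroup G) := {A | IsPGroup p A ∧ A ≠ ⊥ ∧ BO D A ∧ NGood p D A} with h𝒜
    have hi : IsInv 𝒜 := by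
      rintro g A ⟨h1, h2, h3, h4⟩
      exact ⟨h1.map _, cj_ne_bot h2 g, bo_conj h3 g, ngood_conj h4 g⟩
    refine Cfsg.Agent.H309.Lim.van_congr (fun k x => ?_)
      (Cfsg.Agent.H309.Lim.van_R0 hΩ hD 𝒜 hi (fun A hA => hA.1) (fun A hA => hA.2.2.2) (n + 1))
    constructor
    · rintro h A ⟨h1, h2, h3, h4⟩ hAx
      exact JD_ne_bot_iff.mpr ⟨A, hAx, h2, h3⟩ h
    · intro h
      by_contra h'
      obtain ⟨A, hAx, hA1, hAB⟩ := JD_ne_bot_iff.mp h'
      obtain ⟨B, hBA, hB1, hBB, hBg, -⟩ := Cfsg.Agent.H296.Lim.exists_good_of_BO hp hD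
        ((hstp k x).to_le hAx) hAB hA1
      exact h B ⟨(hstp k x).to_le (hBA.trans hAx), hB1, hBB, hBg⟩ (hBA.trans hAx)

theorem star_aux {p : ℕ} [Fact p.Prime] : ∀ (N : ℕ) (n : ℕ) (G : Type u) [Group G] [Finite G] (Ω : Type v)
    [MulAction G Ω] [Finite Ω] (D : Type w) [AddCommGroup D] [DistribMulAction G D] [Finite D],
    Nat.card G < N → PSet p G Ω → IsPTors p D → ∀ R : Set (Subgroup G), IsInv R → ⊥ ∈ R → IsLowerSet R →
      (∀ P : Subgroup G, IsPGroup p P → JD D P ∈ R → P ∈ R) → Van G Ω D R (n + 2) := by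
  intro N
  induction N with
  | zero => intro n G _ _ Ω _ _ D _ _ _ h; omega
  | succ N ih =>
    intro n G _ _ Ω _ _ D _ _ _ hN hΩ hD R hRi hbot hlow hJ
    have IH : ∀ (n : ℕ) (H : Type u) [Group H] [Finite H] (Ω' : Type v) [MulAction H Ω'] [Finite Ω'] (D' : Type w)
      [AddCommGroup D'] [DistribMulAction H D'] [Finite D'], Nat.card H < Nat.card G → PSet p H Ω' →
      IsPTors p D' → ∀ R : Set (Subgroup H), IsInv R → ⊥ ∈ R → IsLowerSet R →
        (∀ P : Subgroup H, IsPGroup p P → JD D' P ∈ R → P ∈ R) → Van H Ω' D' R (n + 2) := by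
      intro n H _ _ Ω' _ _ D' _ _ _ hH h1 h2 R' r1 r2 r3 r4
      exact ih n H Ω' D' (by omega) h1 h2 R' r1 r2 r3 r4
    have hstp : ∀ (k : ℕ) (x : Fin (k + 1) → Ω), IsPGroup p (st G x) := fun k x =>
      (hΩ.pgroup (x 0)).to_le (fun g hg => congrFun (hg : g • x = x) 0)
    refine van_of_filt hlow.ordConnected hRi (fun P => Nat.card (JD D P)) ?_ ?_ (n + 2) ?_
    · intro P _ Q _ hPQ
      exact Nat.card_le_card_of_injective _ (Subgroup.inclusion_injective (JD_mono hPQ))
    · intro g P _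
      show Nat.card (JD D (cj g P)) = Nat.card (JD D P)
      rw [JD_cj, H291.Lim.card_cj]
    · intro i
      by_cases hi : i = 1
      · refine Cfsg.Agent.H309.Lim.van_congr (fun k x => ?_) (van_nobo hΩ hD IH n)
        constructor
        · rintro ⟨-, h⟩
          rw [hi, Subgroup.card_eq_one] at h
          exact h
        · intro h
          refine ⟨hJ _ (hstp k x) ?_, ?_⟩
          · rw [show JD D (st G x) = ⊥ from h]; exact hbot
          · show Nat.card (JD D (st G x)) = i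
            rw [show JD D (st G x) = ⊥ from h, hi, Subgroup.card_bot]
      · exact piece hΩ hD n (IH n) R hRi hlow hJ i hi

/-- **D3: the local theorem** -/
theorem star {G : Type u} [Group G] {Ω : Type v} [MulAction G Ω] {D : Type w} [AddCommGroup D]
    [DistribMulAction G D] {p : ℕ} [Fact p.Prime] [Finite G] [Finite Ω] [Finite D] (hΩ : PSet p G Ω)
    (hD : IsPTors p D)
    (R : Set (Subgroup G)) (hRi : IsInv R) (hbot : ⊥ ∈ R) (hlow : IsLowerSet R)
    (hJ : ∀ P : Subgroup G, IsPGroup p P → JD D P ∈ R → P ∈ R) (n : ℕ) : Van G Ω D R (n + 2) :=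
  star_aux _ n G Ω D (Nat.lt_succ_self _) hΩ hD R hRi hbot hlow hJ

theorem starY {G : Type u} [Group G] {Ω : Type v} [MulAction G Ω] {D : Type w} [AddCommGroup D]
    [DistribMulAction G D] {p : ℕ} [Fact p.Prime] [Finite G] [Finite Ω] [Finite D] (hΩ : PSet p G Ω)
    (hD : IsPTors p D) (Y : Subgroup G) [Y.Normal] (hY : ∀ x : Ω, Y ≤ stabilizer G x)
    (hYD : ∀ u ∈ Y, ∀ d : D, u • d = d) (R : Set (Subgroup G)) (hRi : IsInv R) (hYR : Y ∈ R)
    (hlow : ∀ P ∈ R, ∀ Q : Subgroup G, Y ≤ Q → Q ≤ P → Q ∈ R)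
    (hJ : ∀ P : Subgroup G, IsPGroup p P → Y ≤ P → JDY Y D P ∈ R → P ∈ R) (n : ℕ) :
    Van G Ω D R (n + 2) :=
  starY_quot Y hΩ hD hY hYD n (fun _ _ hPS R' r1 r2 r3 r4 => star hPS hD R' r1 r2 r3 r4 n) R hRi hYR hlow hJ

end Cfsg.Agent.H539.Lim
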