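import Cfsg.Agent.H539.Lim.PieceA
import Cfsg.Agent.H539.Lim.Star
import Cfsg.Agent.H486.Lim.Disjoint
import Cfsg.Agent.H679.Lim.PieceCentric
import Cfsg.Agent.H473.Lim.Coef
import Cfsg.Agent.H118.Lim.Local

/-!
# S5242 (TEAM LIM), piece GA3: the noncentric pieces and Theorem A
-/

set_option autoImplicit false

namespace Cfsg.Agent.H539.Lim.PA

open MulAction Cfsg.Agent.H539.Lim Cfsg.Agent.H647.Lim Cfsg.Agent.H835.Lim

universe u v w

variable {G : Type u} [Group G] {Ω : Type v} [MulAction G Ω]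

/-- **the pieces with noncentric Thompson subgroup vanish in all degrees** -/
theorem piece_noncentric {p : ℕ} [Fact p.Prime] [Finite G] [Finite Ω] (hΩ : PSet p G Ω) (X : Subgroup G)
    (hXp : IsPGroup p X) (_hX : JT X = X) (hXc : ¬ Centric p X) (n : ℕ) :
    ((Coef.Z p G).restr (Nz X)).Van (FixPt X Ω)
      {Q : Subgroup ↥(Nz X) | Centric p (Q.map (Nz X).subtype) ∧ JT (Q.map (Nz X).subtype) = X} n := by
  apply piece_of_mod hΩ X hXp
  unfold Centric at hXc
  push Not at hXc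
  obtain ⟨u, hu, hk, huX⟩ := hXc
  have hY : (X.subgroupOf (Nz X)).Normal := Subgroup.normal_in_normalizer
  have hC : ((Subgroup.centralizer (X : Set G)).subgroupOf (Nz X)).Normal := by
    constructor
    intro c hc g
    rw [Subgroup.mem_subgroupOf, Subgroup.mem_centralizer_iff] at hc ⊢
    intro x hx
    have h1 : (g : G)⁻¹ * x * g ∈ X := by
      have := (Subgroup.mem_normalizer_iff.mp (Subgroup.inv_mem _ g.2) x).mp hx
      simpa using this
    have h2 := hc _ h1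
    rw [Subgroup.coe_mul, Subgroup.coe_mul, Subgroup.coe_inv]
    calc x * ((g : G) * c * (g : G)⁻¹) = (g : G) * (((g : G)⁻¹ * x * g) * c) * (g : G)⁻¹ := by group
      _ = (g : G) * (c * ((g : G)⁻¹ * x * g)) * (g : G)⁻¹ := by rw [h2]
      _ = (g : G) * c * (g : G)⁻¹ * x := by group
  have huN : u ∈ Nz X := by
    rw [Subgroup.mem_normalizer_iff]
    intro x
    constructor
    · intro hx
      rw [hu x hx, mul_inv_cancel_right]
      exact hx
    · intro hx
      have h1 := hu _ hx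
      have h2 : u * x * u⁻¹ = x := by
        have h3 : u * (u * x * u⁻¹) * u⁻¹ = u * x * u⁻¹ := by rw [h1]; group
        have h4 : u⁻¹ * (u * (u * x * u⁻¹) * u⁻¹) * u = u⁻¹ * (u * x * u⁻¹) * u := by rw [h3]
        have h5 : u⁻¹ * (u * (u * x * u⁻¹) * u⁻¹) * u = u * x * u⁻¹ := by group
        have h6 : u⁻¹ * (u * x * u⁻¹) * u = x := by group
        rw [h5, h6] at h4
        exact h4
      rwa [h2] at hx
  refine Cfsg.Agent.H486.Lim.van_disjoint (Cfsg.Agent.H95.Lim.pset_fixPt hΩ X hXp) (isPTors_DZ hXp) (X.subgroupOf (Nz X))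
    ((Subgroup.centralizer (X : Set G)).subgroupOf (Nz X)) ?_ ?_ ?_ (VX_ordConnected X) (VX_inv X) ?_ n
  · intro x y hy
    rw [Subgroup.mem_subgroupOf] at hy
    rw [mem_stabilizer_iff]
    apply Subtype.ext
    rw [FixPt.coe_smul]
    exact x.2 hy
  · intro c hc d
    rw [Subgroup.mem_subgroupOf, Subgroup.mem_centralizer_iff] at hc
    rw [DZ.smul_eq_iff]
    exact (hc _ d.val_mem.1).symm
  · refine ⟨⟨u, huN⟩, ?_, ?_, ?_⟩
    · rw [Subgroup.mem_subgroupOf, Subgroup.mem_centralizer_iff]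
      intro x hx
      exact (hu x hx).symm
    · obtain ⟨k, hk⟩ := hk
      exact ⟨k, Subtype.ext hk⟩
    · rw [Subgroup.mem_subgroupOf]
      exact huX
  · rintro P ⟨-, -, hP⟩ c hc
    obtain ⟨hc1, hc2⟩ := Subgroup.mem_inf.1 hc
    rw [Subgroup.mem_subgroupOf, Subgroup.mem_centralizer_iff] at hc2
    rw [Subgroup.mem_subgroupOf]
    have h1 : (c : G) ∈ JT (P.map (Nz X).subtype) := by
      apply centralizer_JT _ _ (Subgroup.mem_map_of_mem _ hc1)
      intro v hv
      rw [hP] at hv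
      exact (hc2 v hv).symm
    rwa [hP] at h1

theorem piece_centric {p : ℕ} [Fact p.Prime] [Finite G] [Finite Ω] (hΩ : PSet p G Ω) (X : Subgroup G)
    (hXp : IsPGroup p X) (hX : JT X = X) (hXc : Centric p X) (n : ℕ) :
    ((Coef.Z p G).restr (Nz X)).Van (FixPt X Ω)
      {Q : Subgroup ↥(Nz X) | Centric p (Q.map (Nz X).subtype) ∧ JT (Q.map (Nz X).subtype) = X} (n + 2) := by
  have hY : (X.subgroupOf (Nz X)).Normal := Subgroup.normal_in_normalizer
  refine Cfsg.Agent.H679.Lim.piece_centric_aux hΩ X hX hXc n (fun R h1 h2 h3 h4 => ?_)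
  refine starY (Cfsg.Agent.H95.Lim.pset_fixPt hΩ X hXp) (Cfsg.Agent.H679.Lim.ZM.ptors hXp)
    (X.subgroupOf (Nz X)) ?_ ?_ R h1 h2 h3 h4 n
  · intro x y hy
    rw [Subgroup.mem_subgroupOf] at hy
    rw [mem_stabilizer_iff]
    apply Subtype.ext
    rw [FixPt.coe_smul]
    exact x.2 hy
  · intro u hu d
    rw [Subgroup.mem_subgroupOf] at hu
    rw [Cfsg.Agent.H679.Lim.ZM.smul_eq_iff]
    exact d.val_mem.2 _ hu

/-- the filtration function -/
noncomputable def fJ (P : Subgroup G) : ℕ := dmax P * (Nat.card G + 1) + Nat.card (JT P)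

theorem card_JT_le [Finite G] (P : Subgroup G) : Nat.card (JT P) ≤ Nat.card G := Subgroup.card_le_card_group _

theorem fJ_mono [Finite G] {P Q : Subgroup G} (h : P ≤ Q) : fJ P ≤ fJ Q := by
  rcases (dmax_mono h).lt_or_eq with h1 | h1
  · have h2 := card_JT_le P
    unfold fJ
    have h3 : (dmax P + 1) * (Nat.card G + 1) ≤ dmax Q * (Nat.card G + 1) := Nat.mul_le_mul_right _ h1
    rw [add_mul, one_mul] at h3
    omega
  · unfold fJ
    rw [h1]
    exact Nat.add_le_add_left (Nat.card_le_card_of_injective _ (Subgroup.inclusion_injective (JT_mono h h1))) _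

theorem fJ_eq [Finite G] {P Q : Subgroup G} (h : fJ P = fJ Q) : dmax P = dmax Q ∧ Nat.card (JT P) = Nat.card (JT Q) := by
  unfold fJ at h
  have hP := card_JT_le P
  have hQ := card_JT_le Q
  have h1 : dmax P = dmax Q := by
    rcases lt_trichotomy (dmax P) (dmax Q) with h1 | h1 | h1
    · exfalso
      have h3 : (dmax P + 1) * (Nat.card G + 1) ≤ dmax Q * (Nat.card G + 1) := Nat.mul_le_mul_right _ h1
      rw [add_mul, one_mul] at h3
      omega
    · exact h1
    · exfalso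
      have h3 : (dmax Q + 1) * (Nat.card G + 1) ≤ dmax P * (Nat.card G + 1) := Nat.mul_le_mul_right _ h1
      rw [add_mul, one_mul] at h3
      omega
  rw [h1] at h
  exact ⟨h1, by omega⟩

theorem JT_eq_of_fJ [Finite G] {P Q : Subgroup G} (hPQ : P ≤ Q) (h : fJ P = fJ Q) : JT P = JT Q := by
  obtain ⟨h1, h2⟩ := fJ_eq h
  exact Subgroup.eq_of_le_of_card_ge (JT_mono hPQ h1) h2.ge

/-- **Theorem A** -/
theorem thmA {p : ℕ} [Fact p.Prime] [Finite G] [Finite Ω] (hΩ : PSet p G Ω) (n : ℕ) :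
    (Coef.Z p G).Van Ω {P : Subgroup G | Centric p P} (n + 2) := by
  -- only the `p`-subgroups matter
  refine van_congr_coef hΩ _ (V := {P : Subgroup G | Centric p P ∧ IsPGroup p P}) ?_ ?_
  · intro P hP
    exact ⟨fun h => h.1, fun h => ⟨h, hP⟩⟩
  have hoc : ({P : Subgroup G | Centric p P ∧ IsPGroup p P}).OrdConnected := by
    refine Set.ordConnected_iff.2 ?_
    rintro P ⟨hP1, hP2⟩ Q ⟨hQ1, hQ2⟩ hPQ R ⟨hPR, hRQ⟩
    exact ⟨centric_mono hPR hP1, hQ2.to_le hRQ⟩
  have hinv : IsInv {P : Subgroup G | Centric p P ∧ IsPGroup p P} := by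
    rintro g P ⟨h1, h2⟩
    exact ⟨centric_cj g h1, isPGroup_cj g h2⟩
  have hfc : ∀ (g : G) (P : Subgroup G), fJ (cj g P) = fJ P := by
    intro g P
    unfold fJ
    rw [(JT_conj g P).1, (JT_conj g P).2]
    congr 1
    exact (Nat.card_congr ((JT P).equivMapOfInjective _ (MulAut.conj g).injective).toEquiv).symm
  refine Cfsg.Agent.H473.Lim.Coef.van_of_filt _ hoc hinv fJ (fun P _ Q _ h => fJ_mono h) (fun g P _ => hfc g P) _ ?_
  intro i
  refine Cfsg.Agent.H118.Lim.Coef.van_of_local _ hΩ (V := {P : Subgroup G | P ∈ {P : Subgroup G | Centric p P ∧ IsPGroup p P} ∧ fJ P = i})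
    ?_ JT (fun P _ => JT_le P) (fun g P _ => (JT_conj g P).1) ?_ _ ?_
  · rintro g P ⟨h1, h2⟩
    exact ⟨hinv g P h1, (hfc g P).trans h2⟩
  · rintro P ⟨-, hP⟩ Q ⟨-, hQ⟩ hPQ
    exact JT_eq_of_fJ hPQ (hP.trans hQ.symm)
  · rintro P ⟨⟨hP1, hP2⟩, hP3⟩
    have hXp : IsPGroup p (JT P) := hP2.to_le (JT_le P)
    have hX := JT_JT P
    refine van_congr_coef (Cfsg.Agent.H95.Lim.pset_fixPt hΩ (JT P) hXp) _ (V := {Q : Subgroup ↥(Nz (JT P)) |
      Centric p (Q.map (Nz (JT P)).subtype) ∧ JT (Q.map (Nz (JT P)).subtype) = JT P}) ?_ ?_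
    · intro Q hQ
      constructor
      · rintro ⟨h1, h2⟩
        refine ⟨⟨⟨h1, hQ.map _⟩, ?_⟩, h2⟩
        rw [← hP3]
        unfold fJ
        have h3 := (JT_JT (Q.map (Nz (JT P)).subtype)).2
        rw [h2, hX.2] at h3
        rw [h2, h3]
      · rintro ⟨⟨⟨h1, -⟩, -⟩, h2⟩
        exact ⟨h1, h2⟩
    · by_cases hc : Centric p (JT P)
      · exact piece_centric hΩ (JT P) hXp hX.1 hc n
      · exact piece_noncentric hΩ (JT P) hXp hX.1 hc (n + 2)

end Cfsg.Agent.H539.Lim.PA
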