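import Cfsg.Agent.H119.Lim.VanK
import Cfsg.Agent.H119.Lim.VanZG
import Cfsg.Agent.H119.Lim.Ex3
import Cfsg.Agent.H425.Lim.VanN
import Cfsg.Agent.H425.Lim.Quo
import Cfsg.Agent.H425.Lim.Corr
import Cfsg.Agent.H539.Lim.ThmA
import Cfsg.Agent.H87.Lim.Ses
import Cfsg.Agent.H309.Lim.Norm

/-!
# H2b: assembly of Theorem E (helper539, for S5242; pieces of helper119 and helper425)
-/

set_option autoImplicit false

namespace Cfsg.Agent.H539.Lim.ME

open MulAction Cfsg.Agent.H539.Lim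
open Cfsg.Agent.H119.Lim (AllP CM KS kc)

universe u v w

variable {L : Type u} [Group L] {Ω : Type v} [MulAction L Ω]

theorem van_const {p : ℕ} [Fact p.Prime] [Finite L] [Finite Ω] (hΩ : PSet p L Ω) (D : Type u) [AddCommGroup D]
    [Finite D] (hD : IsPTors p D) {V : Set (Subgroup L)} (hV : V.OrdConnected) (hVi : IsInv V)
    (hup : ∀ P ∈ V, ∀ Q : Subgroup L, P ≤ Q → IsPGroup p Q → Q ∈ V) (n : ℕ) :
    (H119.Lim.const L D).Van Ω V (n + 1) := by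
  refine H234.Lim.Coef.van_of_mod (H119.Lim.const L D) (D := H425.Lim.Tr L D) hV hVi (fun P hP =>
    { toFun := fun m => ⟨m, fun _ _ => rfl⟩
      invFun := fun m => m.1
      left_inv := fun m => rfl
      right_inv := fun m => rfl
      map_add' := fun a b => rfl }) (fun g P Q h hP hQ m => rfl) ?_
  have : Finite (H425.Lim.Tr L D) := inferInstanceAs (Finite D)
  have hD' : IsPTors p (H425.Lim.Tr L D) := hD
  refine H425.Lim.van_congr (fun k x => ?_) (H309.Lim.van_Q (D := H425.Lim.Tr L D) hΩ hD'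
    {A | A ∈ V ∧ IsPGroup p A} (fun g A hA => ⟨hVi g A hA.1, hA.2.map _⟩) (fun A hA => hA.2) ?_ n)
  · constructor
    · rintro ⟨A, hA, hAx⟩
      exact hup A hA.1 _ hAx (H119.Lim.isPGroup_st hΩ x)
    · intro h
      exact ⟨_, ⟨h, H119.Lim.isPGroup_st hΩ x⟩, le_rfl⟩
  · intro A hA M hM hi z hz hpz a ha haM
    have : ∀ i ∈ Finset.range p, a ^ i • z = z := fun i _ => rfl
    rw [Finset.sum_congr rfl this]
    simp

theorem centric_mono {p : ℕ} {P Q : Subgroup L} (h : P ≤ Q) (hP : Centric p P) : Centric p Q :=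
  fun u hu hk => h (hP u (fun v hv => hu v (h hv)) hk)

theorem CC_ord (p : ℕ) (A : Subgroup L) : (H425.Lim.CC p A).OrdConnected :=
  ⟨fun _ h1 _ h2 _ h3 => ⟨h1.1.trans h3.1, centric_mono h3.1 h1.2.1, h2.2.2.to_le h3.2⟩⟩

theorem CC_inv (p : ℕ) {A : Subgroup L} (hA : A ≤ Subgroup.center L) : IsInv (H425.Lim.CC p A) :=
  fun g _ h => ⟨H425.Lim.cj_le hA h.1 g, H679.Lim.centric_cj g h.2.1, h.2.2.map _⟩

/-- `H^n = 0` of the centre functor on the centric subgroups that are not centric modulo `A` -/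
theorem van_Z_N {p : ℕ} [Fact p.Prime] [Finite L] [Finite Ω] (hΩ : PSet p L Ω) {A : Subgroup L}
    (hA : A ≤ Subgroup.center L) (hAp : IsPGroup p A) (n : ℕ) :
    (Coef.Z p L).Van Ω (H425.Lim.CC p A \ CM p A) n := by
  set V : Set (Subgroup L) := H425.Lim.CC p A \ CM p A with hVdef
  have hV : V.OrdConnected := H119.Lim.ordConnected_diff (CC_ord p A) (H119.Lim.CM_isUpperSet p A)
  have hVi : IsInv V := H119.Lim.isInv_diff (CC_inv p hA) (H119.Lim.CM_isInv hA p)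
  have hVC : V ⊆ H425.Lim.CC p A := fun _ h => h.1
  have hN : ∀ P ∈ V, ∃ u : L, u ∉ P ∧ (∃ k : ℕ, u ^ (p ^ k) = 1) ∧ ∀ v ∈ P, u * v * u⁻¹ * v⁻¹ ∈ A := by
    rintro P ⟨-, hP⟩
    by_contra h
    apply hP
    intro u h1 h2
    by_contra h3
    exact h ⟨u, h3, h2, h1⟩
  have hfinA : Finite (H425.Lim.AA A hA) := inferInstanceAs (Finite (Additive ↥A))
  have hfinZ : ∀ P : Subgroup L, Finite ((Coef.Z p L).M P) := fun P =>
    inferInstanceAs (Finite (Additive ↥(zc p P)))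
  have htorA : IsPTors p (H425.Lim.AA A hA) := by
    intro a
    obtain ⟨k, hk⟩ := hAp (Additive.toMul (show Additive ↥A from a))
    exact ⟨k, hk⟩
  have htorZ : ∀ P ∈ V, IsPTors p ((Coef.Z p L).M P) := by
    rintro P ⟨hP, -⟩ m
    obtain ⟨k, hk⟩ := hP.2.2 ⟨_, (H425.Lim.zval_mem m).1⟩
    refine ⟨k, H425.Lim.zval_inj ?_⟩
    have h1 : ∀ j : ℕ, H425.Lim.zval (j • m) = H425.Lim.zval m ^ j := by
      intro j
      induction j with
      | zero => rw [zero_smul, pow_zero]; rfl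
      | succ j ih => rw [succ_nsmul, H425.Lim.zval_add, ih, pow_succ]
    rw [h1]
    exact congrArg Subtype.val hk
  refine H87.Lim.Coef.van_ses2 hV hVi (H425.Lim.homAZ p A hA hVC) (H425.Lim.homZN p A hA V)
    (fun P hP => H425.Lim.homAZ_inj p A hA hVC hP) (fun P hP m => H425.Lim.homAZ_exact p A hA hVC hP m)
    (fun P _ => H425.Lim.homZN_surj p A hA V P) ?_ ?_
  · exact H425.Lim.van_NN hΩ _ A hA hV hVi (fun P hP => hP.1.2.2) (fun P hP => hP.1.1) hN (fun _ _ => hfinA)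
      (fun _ _ => htorA) (fun _ _ _ _ _ _ => rfl) n
  · refine H425.Lim.van_NN hΩ _ A hA hV hVi (fun P hP => hP.1.2.2) (fun P hP => hP.1.1) hN ?_ ?_ ?_ n
    · intro P hP
      have := hfinZ P
      exact Finite.of_surjective _ (H425.Lim.homZN_surj p A hA V P)
    · intro P hP m
      obtain ⟨z, rfl⟩ := H425.Lim.homZN_surj p A hA V P m
      obtain ⟨k, hk⟩ := htorZ P hP z
      exact ⟨k, by rw [← map_nsmul, hk, map_zero]⟩
    · intro P hP c hc h m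
      obtain ⟨z, rfl⟩ := H425.Lim.homZN_surj p A hA V P m
      rw [← (H425.Lim.homZN p A hA V).nat c P P h hP hP z, ← sub_eq_zero, ← map_sub,
        H425.Lim.homZN_eq_zero, sub_eq_add_neg, H425.Lim.zval_add, H425.Lim.zval_neg,
        H425.Lim.zval_tau h hP.1.2]
      have h1 := hc _ (H425.Lim.zval_mem z).1
      have h2 := Subgroup.mem_center_iff.mp (hA h1) c⁻¹
      set t := H425.Lim.zval z with ht
      have h3 : (c * t * c⁻¹ * t⁻¹) * (c⁻¹ * t * c * t⁻¹) = 1 := by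
        calc (c * t * c⁻¹ * t⁻¹) * (c⁻¹ * t * c * t⁻¹)
            = ((c * t * c⁻¹ * t⁻¹) * c⁻¹) * (t * c * t⁻¹) := by group
          _ = (c⁻¹ * (c * t * c⁻¹ * t⁻¹)) * (t * c * t⁻¹) := by rw [h2]
          _ = 1 := by group
      have e : c⁻¹ * t * c * t⁻¹ = (c * t * c⁻¹ * t⁻¹)⁻¹ := eq_inv_of_mul_eq_one_right h3
      rw [e]
      exact A.inv_mem h1

theorem normal_of_central {A : Subgroup L} (hA : A ≤ Subgroup.center L) : A.Normal :=
  ⟨fun a ha g => by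
    rw [Subgroup.mem_center_iff.mp (hA ha) g, mul_inv_cancel_right]; exact ha⟩

theorem van_Z_C {p : ℕ} [Fact p.Prime] [Finite L] [Finite Ω] (hΩ : PSet p L Ω) {A : Subgroup L}
    (hA : A ≤ Subgroup.center L) (hAp : IsPGroup p A) (hAst : ∀ x : Ω, A ≤ stabilizer L x) (n : ℕ) :
    (Coef.Z p L).Van Ω (AllP p A ∩ CM p A) (n + 2) := by
  have h1 : (Coef.Z p L).Van Ω (H425.Lim.CC p A) (n + 2) := by
    refine H425.Lim.cvan_congr _ (fun k x => ?_) (H539.Lim.PA.thmA hΩ n)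
    exact ⟨fun h => ⟨H119.Lim.le_st_of hAst x, h, H119.Lim.isPGroup_st hΩ x⟩, fun h => h.2.1⟩
  have h2 := H473.Lim.Coef.van_two3 (Coef.Z p L) (CC_ord p A) (CC_inv p hA) (H119.Lim.CM_isUpperSet p A)
    (H119.Lim.CM_isInv hA p) h1 (van_Z_N hΩ hA hAp (n + 3))
  refine H425.Lim.cvan_congr _ (fun k x => ?_) h2
  exact ⟨fun h => ⟨⟨h.1.1, h.1.2.2⟩, h.2⟩, fun h => ⟨⟨h.1.1, H119.Lim.centric_of_CM h.2, h.1.2⟩, h.2⟩⟩

/-- `H²(all; K) = 0` -/
theorem van_K_two {p : ℕ} [Fact p.Prime] [Finite L] [Finite Ω] (hΩ : PSet p L Ω) {A : Subgroup L}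
    (hA : A ≤ Subgroup.center L) (hAp : IsPGroup p A) (hAst : ∀ x : Ω, A ≤ stabilizer L x) :
    (KS A).Van Ω (AllP p A) 2 := by
  haveI : A.Normal := normal_of_central hA
  have hO : (AllP p A ∩ CM p A).OrdConnected :=
    ⟨fun _ h1 _ h2 _ h3 => ⟨(H119.Lim.AllP_ordConnected p A).out h1.1 h2.1 h3, H119.Lim.CM_isUpperSet p A h3.1 h1.2⟩⟩
  have hI : IsInv (AllP p A ∩ CM p A) := fun g P h => ⟨H119.Lim.AllP_isInv hA p g P h.1, H119.Lim.CM_isInv hA p g P h.2⟩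
  have hfinA : Finite (H119.Lim.DA A hA) := inferInstanceAs (Finite (Additive ↥A))
  have htorA : IsPTors p (H119.Lim.DA A hA) := by
    intro a
    obtain ⟨k, hk⟩ := hAp (Additive.toMul (α := ↥A) a)
    exact ⟨k, hk⟩
  have hN : (H119.Lim.NS p A).Van Ω (AllP p A ∩ CM p A) 3 := by
    refine H87.Lim.Coef.van_ses1 hO hI (H119.Lim.AtoZ hA p) (H119.Lim.ZtoN hAp)
      (fun P hP => H119.Lim.AtoZ_injective hA hP) (fun P hP m => ?_)
      (fun P hP => H119.Lim.ZtoN_surjective hAp hP) (van_Z_C hΩ hA hAp hAst 1)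
      (van_const hΩ _ htorA hO hI ?_ 3)
    · exact H119.Lim.ZtoN_exact hA hAp hP m
    · rintro P ⟨h1, h2⟩ Q hPQ hQ
      exact ⟨⟨h1.1.trans hPQ, hQ⟩, H119.Lim.CM_isUpperSet p A hPQ h2⟩
  have hZG : (H119.Lim.ZG p A).Van Ω (AllP p A ∩ CM p A) 2 := by
    refine H119.Lim.van_ZG hΩ hA hAp hAst ?_
    letI := H119.Lim.quotAct hAst
    exact H539.Lim.PA.thmA (H119.Lim.quotAct_pset hΩ hAp hAst) 0
  have hK : (KS A).Van Ω (AllP p A ∩ CM p A) 2 :=
    H87.Lim.Coef.van_ses1 hO hI (H119.Lim.incN p A (AllP p A ∩ CM p A)) (H119.Lim.toK hA hAp)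
      (fun P _ => H119.Lim.incN_injective p A _ P) (fun P _ m => H119.Lim.toK_exact hA hAp P m)
      (fun P hP => H119.Lim.toK_surjective hA hAp hP) hZG hN
  exact H473.Lim.Coef.van_two1 (KS A) (H119.Lim.AllP_ordConnected p A) (H119.Lim.AllP_isInv hA p)
    (H119.Lim.CM_isUpperSet p A) (H119.Lim.CM_isInv hA p) (H119.Lim.van_K_noncentric hΩ hA hAp 2) hK

/-- **Theorem E** -/
theorem thmE {p : ℕ} [Fact p.Prime] {L : Type u} [Group L] [Finite L] {Ω : Type v} [MulAction L Ω] [Finite Ω]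
    (hΩ : PSet p L Ω) (A : Subgroup L) (hA : A ≤ Subgroup.center L) (hAp : IsPGroup p A)
    (hAst : ∀ x : Ω, A ≤ stabilizer L x) (e : Ω → Ω → L → L)
    (he : ∀ x y, ∀ u ∈ stabilizer L x ⊓ stabilizer L y, e x y u ∈ A)
    (hmul : ∀ x y, ∀ u ∈ stabilizer L x ⊓ stabilizer L y, ∀ w ∈ stabilizer L x ⊓ stabilizer L y,
      e x y (u * w) = e x y u * e x y w)
    (heA : ∀ x y, ∀ u ∈ A, e x y u = 1)
    (heq : ∀ (l : L) x y, ∀ u ∈ stabilizer L x ⊓ stabilizer L y, e (l • x) (l • y) (l * u * l⁻¹) = e x y u)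
    (hcoc : ∀ x y z, ∃ c : L, (∀ u ∈ stabilizer L x ⊓ stabilizer L y ⊓ stabilizer L z, c * u * c⁻¹ * u⁻¹ ∈ A) ∧
      ∀ u ∈ stabilizer L x ⊓ stabilizer L y ⊓ stabilizer L z,
        e x y u * e y z u = e x z u * (c * u * c⁻¹ * u⁻¹)) :
    ∃ v : Ω → L → L, (∀ x, ∀ u ∈ stabilizer L x, v x u ∈ A) ∧
      (∀ x, ∀ u ∈ stabilizer L x, ∀ w ∈ stabilizer L x, v x (u * w) = v x u * v x w) ∧
      (∀ x, ∀ u ∈ A, v x u = 1) ∧
      (∀ (l : L) x, ∀ u ∈ stabilizer L x, v (l • x) (l * u * l⁻¹) = v x u) ∧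
      ∀ x y, ∃ c : L, (∀ u ∈ stabilizer L x ⊓ stabilizer L y, c * u * c⁻¹ * u⁻¹ ∈ A) ∧
        ∀ u ∈ stabilizer L x ⊓ stabilizer L y, e x y u * v x u = v y u * (c * u * c⁻¹ * u⁻¹) :=
  H425.Lim.thmE_of hΩ hA hAp hAst (van_K_two hΩ hA hAp hAst) e he hmul heA heq hcoc

end Cfsg.Agent.H539.Lim.ME
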