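import Cfsg.Agent.H647.Lim.DZ
import Cfsg.Agent.H835.Lim.Thompson
import Cfsg.Agent.H95.Lim.Local
import Cfsg.Agent.H234.Lim.Comp

/-!
# S5242 (TEAM LIM), pieces GA2, GA3, common part: the pieces with a fixed Thompson subgroup as module pieces
-/

set_option autoImplicit false

namespace Cfsg.Agent.H539.Lim.PA

open MulAction Cfsg.Agent.H539.Lim Cfsg.Agent.H647.Lim Cfsg.Agent.H835.Lim

universe u v w

section piece

variable {G : Type u} [Group G] {Ω : Type v} [MulAction G Ω] {p : ℕ}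

theorem VX_ordConnected [Finite G] (X : Subgroup G) : (VX p X).OrdConnected := by
  refine Set.ordConnected_iff.2 ?_
  rintro P ⟨hP1, hP2, hP3⟩ Q ⟨hQ1, hQ2, hQ3⟩ hPQ R ⟨hPR, hRQ⟩
  have h1 : P.map (Nz X).subtype ≤ R.map (Nz X).subtype := Subgroup.map_mono hPR
  have h2 : R.map (Nz X).subtype ≤ Q.map (Nz X).subtype := Subgroup.map_mono hRQ
  refine ⟨centric_mono h1 hP1, hQ2.to_le hRQ, ?_⟩
  have h3 : JT (Q.map (Nz X).subtype) ≤ R.map (Nz X).subtype :=
    hQ3.le.trans (hP3.symm.le.trans ((JT_le _).trans h1))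
  rw [JT_sandwich h3 h2, hQ3]

theorem VX_inv [Finite G] (X : Subgroup G) : IsInv (VX p X) := by
  rintro g Q ⟨h1, h2, h3⟩
  refine ⟨?_, isPGroup_cj g h2, ?_⟩
  · rw [map_cj_subtype]
    exact centric_cj _ h1
  · rw [map_cj_subtype, (JT_conj _ _).1, h3]
    ext x
    rw [mem_cj]
    have := Subgroup.mem_normalizer_iff.mp (Subgroup.inv_mem _ g.2) x
    rw [inv_inv] at this
    exact this.symm

/-- `Z(P) = Z(X)^P` for `P` with Thompson subgroup `X` -/
theorem zc_le_zX [Finite G] {X P : Subgroup G} (hP : JT P = X) {z : G} (hz : z ∈ P) (hc : ∀ u ∈ P, z * u = u * z) :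
    z ∈ zX X := by
  have hXP : X ≤ P := by rw [← hP]; exact JT_le P
  have h1 : z ∈ JT P := centralizer_JT P z hz fun v hv => hc v (JT_le P hv)
  rw [hP] at h1
  exact ⟨h1, fun u hu => hc u (hXP hu)⟩

/-- the comparison isomorphism -/
noncomputable def eZ [Finite G] (X : Subgroup G) (Q : Subgroup ↥(Nz X)) (hQ : Q ∈ VX p X) :
    ((Coef.Z p G).restr (Nz X)).M Q ≃+ ↥(DFix Q (DZ X)) where
  toFun m := ⟨DZ.mk ((Additive.toMul (show Additive ↥(zc p (Q.map (Nz X).subtype)) from m) :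
      ↥(zc p (Q.map (Nz X).subtype))) : G)
      (zc_le_zX hQ.2.2 (Additive.toMul (show Additive ↥(zc p (Q.map (Nz X).subtype)) from m)).2.1
        (Additive.toMul (show Additive ↥(zc p (Q.map (Nz X).subtype)) from m)).2.2.1), by
      intro u hu
      rw [DZ.smul_eq_iff, DZ.val_mk]
      exact ((Additive.toMul (show Additive ↥(zc p (Q.map (Nz X).subtype)) from m)).2.2.1 _
        (Subgroup.mem_map_of_mem _ hu)).symm⟩
  invFun d := Additive.ofMul (⟨d.1.val, by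
      have hXP : X ≤ Q.map (Nz X).subtype := by
        conv_lhs => rw [← hQ.2.2]
        exact JT_le _
      refine ⟨hXP d.1.val_mem.1, ?_, Or.inr ⟨hQ.1, hQ.2.1.map _⟩⟩
      rintro _ ⟨u, hu, rfl⟩
      exact ((DZ.smul_eq_iff _ _).1 (d.2 u hu)).symm⟩ : ↥(zc p (Q.map (Nz X).subtype)))
  left_inv m := rfl
  right_inv d := rfl
  map_add' a b := rfl

theorem eZ_val [Finite G] (X : Subgroup G) (Q : Subgroup ↥(Nz X)) (hQ : Q ∈ VX p X)
    (m : ((Coef.Z p G).restr (Nz X)).M Q) : (eZ X Q hQ m).1.val =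
      ((Additive.toMul (show Additive ↥(zc p (Q.map (Nz X).subtype)) from m) :
      ↥(zc p (Q.map (Nz X).subtype))) : G) := rfl

theorem Z_τ_val (p : ℕ) (g : G) (P Q : Subgroup G) (h : ∀ u ∈ P, g * u * g⁻¹ ∈ Q)
    (hP : Centric p P ∧ IsPGroup p P) (m : (Coef.Z p G).M Q) :
    ((Additive.toMul (show Additive ↥(zc p P) from (Coef.Z p G).τ g P Q h m) : ↥(zc p P)) : G) =
      g⁻¹ * ((Additive.toMul (show Additive ↥(zc p Q) from m) : ↥(zc p Q)) : G) * g := by
  classical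
  have h1 : (Coef.Z p G).τ g P Q h m = Additive.ofMul (⟨g⁻¹ * ((Additive.toMul (show Additive ↥(zc p Q) from m) :
      ↥(zc p Q)) : G) * g, zc_conj p h hP _ (Additive.toMul (show Additive ↥(zc p Q) from m)).2⟩ : ↥(zc p P)) := by
    apply congrArg Additive.ofMul
    exact dif_pos hP
  rw [h1]
  rfl

/-- **comparison**: the piece of the centre functor follows from the module piece -/
theorem piece_of_mod [Fact p.Prime] [Finite G] [Finite Ω] (hΩ : PSet p G Ω) (X : Subgroup G)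
    (hXp : IsPGroup p X) {n : ℕ} (h : Van ↥(Nz X) (FixPt X Ω) (DZ X) (VX p X) n) :
    ((Coef.Z p G).restr (Nz X)).Van (FixPt X Ω)
      {Q : Subgroup ↥(Nz X) | Centric p (Q.map (Nz X).subtype) ∧ JT (Q.map (Nz X).subtype) = X} n := by
  refine van_congr_coef (Cfsg.Agent.H95.Lim.pset_fixPt hΩ X hXp) _ (V := VX p X) ?_ ?_
  · intro P hP
    exact ⟨fun h => ⟨h.1, h.2.2⟩, fun h => ⟨h.1, hP, h.2⟩⟩
  · refine Cfsg.Agent.H234.Lim.Coef.van_of_mod _ (VX_ordConnected X) (VX_inv X) (eZ X) ?_ h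
    intro g P Q hPQ hP hQ m
    apply DZ.ext
    rw [eZ_val, DZ.val_smul, eZ_val]
    have hc : Centric p (P.map (Nz X).subtype) ∧ IsPGroup p ↥(P.map (Nz X).subtype) := ⟨hP.1, hP.2.1.map _⟩
    have h1 := Z_τ_val p (g : G) (P.map (Nz X).subtype) (Q.map (Nz X).subtype) (by
      rintro u ⟨w, hw, rfl⟩
      exact ⟨g * w * g⁻¹, hPQ w hw, rfl⟩) hc m
    rw [Subgroup.coe_inv, inv_inv]
    exact h1

end piece

end Cfsg.Agent.H539.Lim.PA
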